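import Mathlib.GroupTheory.OrderOfElement
import Mathlib.Data.Nat.GCD.BigOperators
import Mathlib.Data.Fintype.BigOperators

/-! Small general lemmas about element orders in (finite) groups and their products. -/

set_option autoImplicit false

namespace CfsgLib.Spectrum

/-- In a torsion setting every divisor of an element order is an element order. -/
theorem exists_orderOf_eq_of_dvd {G : Type*} [Monoid G] {g : G} {d : ℕ} (hg : 0 < orderOf g)
    (hd : d ∣ orderOf g) : ∃ h : G, orderOf h = d := by
  obtain ⟨c, hc⟩ := hd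
  refine ⟨g ^ c, ?_⟩
  have hc0 : c ≠ 0 := by
    rintro rfl
    simp [hc] at hg
  rw [orderOf_pow' g hc0, hc]
  have : Nat.gcd (d * c) c = c := Nat.gcd_eq_right (dvd_mul_left c d)
  rw [this, Nat.mul_div_cancel _ (Nat.pos_of_ne_zero hc0)]

/-- Every element order divides one that is maximal under divisibility. -/
theorem exists_maximal_order {G : Type*} [Group G] [Finite G] (g : G) :
    ∃ m, (m ∈ Set.range (orderOf : G → ℕ) ∧
      ∀ k ∈ Set.range (orderOf : G → ℕ), m ∣ k → k = m) ∧ orderOf g ∣ m := by
  classical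
  have := Fintype.ofFinite G
  obtain ⟨h, hh, hmax⟩ := Finset.exists_max_image
    (Finset.univ.filter (fun h : G => orderOf g ∣ orderOf h)) (fun h => orderOf h)
    ⟨g, by simp⟩
  refine ⟨orderOf h, ⟨⟨h, rfl⟩, ?_⟩, (Finset.mem_filter.mp hh).2⟩
  rintro k ⟨x, rfl⟩ hk
  have hx := hmax x (by simp [dvd_trans (Finset.mem_filter.mp hh).2 hk])
  exact le_antisymm hx (Nat.le_of_dvd (orderOf_pos x) hk)

/-- If every coordinate order divides some element order of the corresponding factor, then the
lcm of the requested orders is attained in the product. -/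
theorem exists_pi_orderOf {ι : Type*} [Fintype ι] {G : ι → Type*} [∀ i, Group (G i)]
    [∀ i, Finite (G i)] (d : ι → ℕ) (g : ∀ i, G i) (hd : ∀ i, d i ∣ orderOf (g i)) :
    ∃ x : ∀ i, G i, orderOf x = Finset.univ.lcm d := by
  classical
  choose x hx using fun i => exists_orderOf_eq_of_dvd (orderOf_pos (g i)) (hd i)
  refine ⟨x, ?_⟩
  rw [Pi.orderOf]
  exact Finset.lcm_congr rfl fun i _ => hx i

theorem range_orderOf_congr {G H : Type*} [Group G] [Group H] (e : G ≃* H) :
    Set.range (orderOf : G → ℕ) = Set.range (orderOf : H → ℕ) := by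
  ext n
  constructor
  · rintro ⟨g, rfl⟩
    exact ⟨e g, MulEquiv.orderOf_eq e g⟩
  · rintro ⟨g, rfl⟩
    exact ⟨e.symm g, MulEquiv.orderOf_eq e.symm g⟩

end CfsgLib.Spectrum
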