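import Mathlib.FieldTheory.Finite.Extension
import Mathlib.LinearAlgebra.Matrix.GeneralLinearGroup.Basic
import Mathlib.LinearAlgebra.Matrix.Charpoly.Coeff
import Mathlib.RingTheory.PrincipalIdealDomain
import Mathlib.RingTheory.UniqueFactorizationDomain.NormalizedFactors
import Mathlib.RingTheory.IntegralDomain
import Mathlib.Algebra.CharP.Lemmas
import Mathlib.LinearAlgebra.Matrix.CharP
import Cfsg.Agent.Spectrum.Basic

/-! Element orders in `GL_n` over a finite field: a common exponent and the witnesses attaining it. -/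

set_option autoImplicit false

open Polynomial Matrix

namespace CfsgLib.MatOrder

/-- `lcm (q^i - 1 : 1 ≤ i ≤ n)`. -/
def semiExp (q n : ℕ) : ℕ := (Finset.Icc 1 n).lcm fun i => q ^ i - 1

theorem dvd_semiExp {q n i : ℕ} (h1 : 1 ≤ i) (h2 : i ≤ n) : q ^ i - 1 ∣ semiExp q n :=
  Finset.dvd_lcm (f := fun i => q ^ i - 1) (Finset.mem_Icc.mpr ⟨h1, h2⟩)

theorem multiset_prod_dvd_pow {R : Type*} [CommMonoid R] {b : R} :
    ∀ s : Multiset R, (∀ x ∈ s, x ∣ b) → s.prod ∣ b ^ Multiset.card s := by
  intro s
  induction s using Multiset.induction_on with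
  | empty => simp
  | cons a s ih =>
    intro h
    rw [Multiset.prod_cons, Multiset.card_cons, pow_succ']
    exact mul_dvd_mul (h a (Multiset.mem_cons_self a s)) (ih fun x hx => h x (Multiset.mem_cons_of_mem hx))

section Bound

variable {F : Type*} [Field F] [Fintype F]

theorem irreducible_dvd_X_pow_semiExp_sub_one {f : F[X]} (hf : Irreducible f) (hf0 : f.coeff 0 ≠ 0)
    {n : ℕ} (hn : f.natDegree ≤ n) : f ∣ X ^ semiExp (Fintype.card F) n - 1 := by
  classical
  have h := (hf.natDegree_dvd_iff_dvd_X_pow_card_pow_sub_X).mp (dvd_refl f.natDegree)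
  rw [Nat.card_eq_fintype_card] at h
  have hq : 1 ≤ Fintype.card F ^ f.natDegree := Nat.one_le_pow _ _ Fintype.card_pos
  have hX : ¬ f ∣ X := by
    intro hd
    have hass := hf.associated_of_dvd irreducible_X hd
    exact hf0 (X_dvd_iff.mp hass.dvd')
  have h2 : f ∣ X * (X ^ (Fintype.card F ^ f.natDegree - 1) - 1) := by
    rwa [mul_sub, mul_one, ← pow_succ', Nat.sub_add_cancel hq]
  have h3 := (hf.prime.dvd_or_dvd h2).resolve_left hX
  obtain ⟨c, hc⟩ := dvd_semiExp (q := Fintype.card F) hf.natDegree_pos hn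
  refine h3.trans ?_
  rw [hc, pow_mul]
  have h4 := sub_dvd_pow_sub_pow (X ^ (Fintype.card F ^ f.natDegree - 1) : F[X]) 1 c
  rwa [one_pow] at h4

/-- `L * p^K` is an exponent of `GL_n(q)` when `n ≤ p^K`. -/
theorem gl_pow_exp_eq_one {p : ℕ} [Fact p.Prime] [CharP F p] {n K : ℕ} (hK : n ≤ p ^ K)
    (A : GL (Fin n) F) : A ^ (semiExp (Fintype.card F) n * p ^ K) = 1 := by
  classical
  rcases Nat.eq_zero_or_pos n with rfl | hn
  · exact Subsingleton.elim _ _
  set P := (A : Matrix (Fin n) (Fin n) F).charpoly with hP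
  have hP0 : P ≠ 0 := (charpoly_monic _).ne_zero
  have hc0 : P.coeff 0 ≠ 0 := by
    intro h
    have := det_eq_sign_charpoly_coeff (A : Matrix (Fin n) (Fin n) F)
    rw [← hP, h, mul_zero] at this
    exact (GeneralLinearGroup.det A).ne_zero this
  set s := UniqueFactorizationMonoid.normalizedFactors P
  have hassoc : Associated s.prod P := UniqueFactorizationMonoid.prod_normalizedFactors hP0
  have hdeg : P.natDegree = n := by rw [hP, charpoly_natDegree_eq_dim, Fintype.card_fin]
  have hsdeg : s.prod.natDegree = n := by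
    rw [← hdeg]; exact natDegree_eq_of_degree_eq (degree_eq_degree_of_associated hassoc)
  have hirr : ∀ f ∈ s, Irreducible f := fun f hf =>
    UniqueFactorizationMonoid.irreducible_of_normalized_factor f hf
  have hs0 : (0 : F[X]) ∉ s := fun h => (hirr 0 h).ne_zero rfl
  have hsum : (s.map natDegree).sum = n := by rw [← natDegree_multiset_prod s hs0, hsdeg]
  have hcard : Multiset.card s ≤ n := by
    rw [← hsum]
    have := Multiset.card_nsmul_le_sum (s := s.map natDegree) (a := 1) (by
      intro x hx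
      obtain ⟨f, hf, rfl⟩ := Multiset.mem_map.mp hx
      exact (hirr f hf).natDegree_pos)
    simpa using this
  have hall : ∀ f ∈ s, f ∣ X ^ semiExp (Fintype.card F) n - 1 := by
    intro f hf
    have hfd : f ∣ P := UniqueFactorizationMonoid.dvd_of_mem_normalizedFactors hf
    refine irreducible_dvd_X_pow_semiExp_sub_one (hirr f hf) ?_ ?_
    · intro h
      exact hc0 (X_dvd_iff.mp ((X_dvd_iff.mpr h).trans hfd))
    · exact hdeg ▸ natDegree_le_of_dvd hfd hP0
  have hdvd : P ∣ (X ^ semiExp (Fintype.card F) n - 1) ^ p ^ K :=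
    hassoc.symm.dvd.trans ((multiset_prod_dvd_pow s hall).trans (pow_dvd_pow _ (hcard.trans hK)))
  rw [sub_pow_char_pow, one_pow, ← pow_mul] at hdvd
  obtain ⟨c, hc⟩ := hdvd
  have h := congrArg (aeval (A : Matrix (Fin n) (Fin n) F)) hc
  rw [map_mul, aeval_self_charpoly, zero_mul, map_sub, map_pow, aeval_X, map_one, sub_eq_zero] at h
  exact Units.ext (by rw [Units.val_pow_eq_pow_val, Units.val_one]; exact h)

end Bound

section Block

variable {R : Type*} [CommRing R]

/-- `A ↦ diag(A, 1)` from `i × i` to `n × n` matrices. -/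
def blockHom {i n : ℕ} (h : i ≤ n) : Matrix (Fin i) (Fin i) R →* Matrix (Fin n) (Fin n) R where
  toFun A := Matrix.reindexAlgEquiv R R (finSumFinEquiv.trans (finCongr (Nat.add_sub_of_le h)))
    (Matrix.fromBlocks A 0 0 (1 : Matrix (Fin (n - i)) (Fin (n - i)) R))
  map_one' := by rw [Matrix.fromBlocks_one, map_one]
  map_mul' A B := by rw [← map_mul, Matrix.fromBlocks_multiply]; simp

theorem blockHom_injective {i n : ℕ} (h : i ≤ n) : Function.Injective (blockHom (R := R) h) := by
  intro A B hAB
  exact (Matrix.fromBlocks_inj.mp ((Matrix.reindexAlgEquiv R R _).injective hAB)).1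

theorem det_blockHom {i n : ℕ} (h : i ≤ n) (A : Matrix (Fin i) (Fin i) R) :
    (blockHom h A).det = A.det := by
  change (Matrix.reindexAlgEquiv R R _ (Matrix.fromBlocks A 0 0 1)).det = A.det
  rw [Matrix.det_reindexAlgEquiv, Matrix.det_fromBlocks_zero₂₁, Matrix.det_one, mul_one]

theorem exists_orderOf_gl_of_le {i n : ℕ} (h : i ≤ n) (g : GL (Fin i) R) :
    ∃ x : GL (Fin n) R, orderOf x = orderOf g :=
  ⟨Units.map (blockHom h) g, orderOf_injective _ (Units.map_injective (blockHom_injective h)) g⟩

end Block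

section Singer

/-- `GL_i(q)` has an element of order `q^i - 1`. -/
theorem exists_gl_orderOf_singer (F : Type*) [Field F] [Fintype F] {i : ℕ} (hi : 1 ≤ i) :
    ∃ g : GL (Fin i) F, orderOf g = Fintype.card F ^ i - 1 := by
  classical
  obtain ⟨p, hp⟩ := CharP.exists F
  have := Fact.mk (CharP.char_is_prime F p)
  have : NeZero i := ⟨by omega⟩
  let K := FiniteField.Extension F p i
  obtain ⟨u, hu⟩ := IsCyclic.exists_ofOrder_eq_natCard (α := Kˣ)
  let b := Module.finBasisOfFinrankEq F K (FiniteField.finrank_extension F p i)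
  refine ⟨Units.map (Algebra.leftMulMatrix b).toMonoidHom u, ?_⟩
  rw [orderOf_injective _ (Units.map_injective (Algebra.leftMulMatrix_injective b)), hu,
    Nat.card_units, FiniteField.natCard_extension, Nat.card_eq_fintype_card]

end Singer

section Unipotent

variable (R : Type*) [CommRing R]

/-- The nilpotent shift matrix. -/
def shift (n : ℕ) : Matrix (Fin n) (Fin n) R := Matrix.of fun i l => if (l : ℕ) = i + 1 then 1 else 0

theorem shift_pow (n j : ℕ) :
    shift R n ^ j = Matrix.of fun (i l : Fin n) => if (l : ℕ) = i + j then (1 : R) else 0 := by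
  induction j with
  | zero => ext i l; simp [Matrix.one_apply, Fin.ext_iff, eq_comm]
  | succ j ih =>
    ext i l
    rw [pow_succ, ih, Matrix.mul_apply]
    by_cases hij : (i : ℕ) + j < n
    · rw [Finset.sum_eq_single ⟨i + j, hij⟩]
      · simp [shift, add_assoc]
      · intro b _ hb
        have : ¬ (b : ℕ) = i + j := fun h => hb (Fin.ext h)
        simp [this]
      · simp
    · rw [Finset.sum_eq_zero]
      · have : ¬ (l : ℕ) = i + (j + 1) := by omega
        simp [this]
      · intro b _
        have : ¬ (b : ℕ) = i + j := by omega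
        simp [this]

theorem det_one_add_shift (n : ℕ) : (1 + shift R n).det = 1 := by
  rw [Matrix.det_of_isUpperTriangular]
  · exact Finset.prod_eq_one fun i _ => by simp [shift]
  · intro i l (hil : l < i)
    have h1 : i ≠ l := ne_of_gt hil
    have h2 : ¬ (l : ℕ) = i + 1 := by omega
    simp [shift, h1, h2]

variable {R}

/-- The regular unipotent element as an element of `SL_n`. -/
def regUnipotent (n : ℕ) : Matrix.SpecialLinearGroup (Fin n) R := ⟨1 + shift R n, det_one_add_shift R n⟩

theorem regUnipotent_pow {p : ℕ} [Fact p.Prime] [CharP R p] {n : ℕ} (hn : 1 ≤ n) (K : ℕ) :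
    ((regUnipotent (R := R) n ^ p ^ K : Matrix.SpecialLinearGroup (Fin n) R) :
        Matrix (Fin n) (Fin n) R) = 1 + shift R n ^ p ^ K := by
  have : Nonempty (Fin n) := ⟨⟨0, hn⟩⟩
  rw [Matrix.SpecialLinearGroup.coe_pow]
  show (1 + shift R n) ^ p ^ K = _
  rw [add_pow_char_pow_of_commute p _ (Commute.one_left _), one_pow]

/-- The regular unipotent element has order `p ^ K`, with `p^(K-1) < n ≤ p^K`. -/
theorem orderOf_regUnipotent [Nontrivial R] {p : ℕ} [Fact p.Prime] [CharP R p] {n K : ℕ} (hn : 1 ≤ n)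
    (h1 : n ≤ p ^ K) (h2 : K = 0 ∨ p ^ (K - 1) < n) :
    orderOf (regUnipotent (R := R) n) = p ^ K := by
  have hzero : shift R n ^ p ^ K = 0 := by
    rw [shift_pow]; ext i l
    have : ¬ (l : ℕ) = i + p ^ K := by omega
    simp [this]
  have hone : regUnipotent (R := R) n ^ p ^ K = 1 := by
    apply Subtype.ext
    rw [regUnipotent_pow hn K, hzero, add_zero]
    rfl
  rcases h2 with rfl | h2
  · rw [pow_zero] at hone ⊢
    rw [pow_one] at hone
    rw [hone, orderOf_one]
  · obtain ⟨K, rfl⟩ : ∃ K', K = K' + 1 := ⟨K - 1, by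
      rcases K with _ | K
      · simp at h2 h1; omega
      · rfl⟩
    refine orderOf_eq_prime_pow ?_ hone
    intro h
    have h' := congrArg (fun A : Matrix.SpecialLinearGroup (Fin n) R => (A : Matrix (Fin n) (Fin n) R)) h
    simp only [regUnipotent_pow hn K, shift_pow, Matrix.SpecialLinearGroup.coe_one] at h'
    simp only [Nat.add_sub_cancel] at h2
    have h3 := congrFun (congrFun h' ⟨0, hn⟩) ⟨p ^ K, h2⟩
    have h4 : (0 : ℕ) < p ^ K := pow_pos (Fact.out : p.Prime).pos K
    simp [Fin.ext_iff, h4.ne] at h3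

end Unipotent

end CfsgLib.MatOrder
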