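import Mathlib.LinearAlgebra.Matrix.ProjectiveSpecialLinearGroup
import Mathlib.LinearAlgebra.Matrix.Charpoly.Minpoly
import Mathlib.LinearAlgebra.Matrix.Charpoly.Eigs
import Mathlib.FieldTheory.Minpoly.Field
import Mathlib.RingTheory.AdjoinRoot
import Mathlib.RingTheory.Norm.Basic
import Mathlib.FieldTheory.Finite.Trace
import Mathlib.FieldTheory.IsAlgClosed.Spectrum
import Mathlib.RingTheory.Multiplicity
import Mathlib.RingTheory.RootsOfUnity.PrimitiveRoots
import Cfsg.Agent.Spectrum.MatrixOrder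

/-!
Element orders of `PSL_n(q)` and a prime `r ∣ q - 1`, `r ∤ n`: an element either commutes with an
element of order `r`, or its order divides `((q^n-1)/((q-1) gcd(n,q-1))) * p^K`.
-/

set_option autoImplicit false

open Polynomial Matrix

namespace CfsgLib.SpectrumPSL

/-- `1 + q + ⋯ + q^(n-1)`. -/
def geo (q n : ℕ) : ℕ := ∑ i ∈ Finset.range n, q ^ i

/-- The order of a Singer cycle in `PSL_n(q)`. -/
def singerExp (q n : ℕ) : ℕ := geo q n / Nat.gcd n (q - 1)

theorem geo_mul (q n : ℕ) (hq : 1 ≤ q) : geo q n * (q - 1) = q ^ n - 1 := by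
  have h := geom_sum_mul_add (q - 1) n
  rw [Nat.sub_add_cancel hq] at h
  unfold geo
  omega

theorem geo_modEq {Q m : ℕ} (h : Q ≡ 1 [MOD m]) (e : ℕ) : geo Q e ≡ e [MOD m] := by
  induction e with
  | zero => rfl
  | succ e ih =>
    rw [geo, Finset.sum_range_succ]
    have := ih.add (h.pow e)
    rwa [one_pow] at this

theorem self_modEq_one {q : ℕ} (hq : 1 ≤ q) : q ≡ 1 [MOD q - 1] :=
  ((Nat.modEq_iff_dvd' hq).mpr (dvd_refl _)).symm

theorem gcd_dvd_geo {q : ℕ} (hq : 1 ≤ q) (n : ℕ) : Nat.gcd n (q - 1) ∣ geo q n := by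
  have h := ((geo_modEq (self_modEq_one hq) n).of_dvd (Nat.gcd_dvd_right n (q - 1)))
  exact (Nat.ModEq.dvd_iff h dvd_rfl).mpr (Nat.gcd_dvd_left _ _)

theorem geo_mul_geo {q : ℕ} (hq : 2 ≤ q) (d e : ℕ) : geo q d * geo (q ^ d) e = geo q (d * e) := by
  apply Nat.eq_of_mul_eq_mul_right (show 0 < q - 1 by omega)
  rw [mul_right_comm, geo_mul q d (by omega), mul_comm, geo_mul (q ^ d) e (Nat.one_le_pow _ _ (by omega)),
    geo_mul q _ (by omega), pow_mul]

theorem singer_key {q d e o : ℕ} (hq : 2 ≤ q) (h1 : o ∣ e * geo q d) (h2 : o ∣ q ^ d - 1) :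
    o ∣ singerExp q (d * e) * (q - 1) := by
  rw [← geo_mul q d (by omega), mul_comm (geo q d)] at h2
  have ho : o ∣ Nat.gcd e (q - 1) * geo q d := by
    rw [← Nat.gcd_mul_right]; exact Nat.dvd_gcd h1 h2
  refine ho.trans ?_
  set g := Nat.gcd (d * e) (q - 1)
  have hg0 : 0 < g := Nat.gcd_pos_of_pos_right _ (by omega)
  have hh : Nat.gcd e (q - 1) ∣ geo (q ^ d) e := by
    have hQ : q ^ d ≡ 1 [MOD q - 1] := by simpa using (self_modEq_one (q := q) (by omega)).pow d
    exact (Nat.ModEq.dvd_iff ((geo_modEq hQ e).of_dvd (Nat.gcd_dvd_right e (q - 1))) dvd_rfl).mpr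
      (Nat.gcd_dvd_left _ _)
  rw [singerExp, ← Nat.mul_dvd_mul_iff_right hg0,
    mul_right_comm (geo q (d * e) / g), Nat.div_mul_cancel (gcd_dvd_geo (by omega) _), ← geo_mul_geo hq,
    mul_comm (Nat.gcd e (q - 1)) (geo q d), mul_assoc, mul_assoc]
  exact mul_dvd_mul_left _ (mul_dvd_mul hh (Nat.gcd_dvd_right _ _))

theorem dvd_mul_iff_div_gcd {G m j : ℕ} (hG : 0 < G) : G ∣ j * m ↔ G / Nat.gcd G m ∣ j := by
  have hg : 0 < Nat.gcd G m := Nat.gcd_pos_of_pos_left _ hG
  obtain ⟨g, a, b, hgpos, hcop, hGa, hmb⟩ := Nat.exists_coprime' hg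
  have hgcd : Nat.gcd G m = g := by
    rw [hGa, hmb, Nat.gcd_mul_right, hcop.gcd_eq_one, one_mul]
  rw [hgcd, hGa, Nat.mul_div_cancel _ hgpos, hmb, ← mul_assoc, Nat.mul_dvd_mul_iff_right hgpos]
  exact ⟨hcop.dvd_of_dvd_mul_right, fun h => h.mul_right _⟩

variable {F : Type*} [Field F] [Fintype F] {n : ℕ}

theorem center_scalar {A : Matrix.SpecialLinearGroup (Fin n) F}
    (h : A ∈ Subgroup.center (Matrix.SpecialLinearGroup (Fin n) F)) :
    ∃ c : F, c ^ n = 1 ∧ (A : Matrix (Fin n) (Fin n) F) = scalar (Fin n) c := by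
  rcases Nat.eq_zero_or_pos n with rfl | hn
  · exact ⟨1, by simp, Subsingleton.elim _ _⟩
  obtain ⟨r, h1, h2⟩ := Matrix.SpecialLinearGroup.mem_center_iff.mp h
  exact ⟨r, by simpa using h1, h2.symm⟩

theorem mk_eq_one_iff {A : Matrix.SpecialLinearGroup (Fin n) F} :
    (QuotientGroup.mk A : Matrix.ProjectiveSpecialLinearGroup (Fin n) F) = 1 ↔
      ∃ c : F, (A : Matrix (Fin n) (Fin n) F) = scalar (Fin n) c := by
  rw [QuotientGroup.eq_one_iff]
  refine ⟨fun h => let ⟨c, _, hc⟩ := center_scalar h; ⟨c, hc⟩, fun ⟨c, hc⟩ => ?_⟩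
  refine Matrix.SpecialLinearGroup.mem_center_iff.mpr ⟨c, ?_, hc.symm⟩
  have := A.2
  rw [hc] at this
  simpa using this

/-- `x ∈ K` lies in the finite subfield `F` iff `x ^ q = x`. -/
theorem mem_base_of_pow_card {K : Type*} [Field K] [Algebra F K] {x : K}
    (hx : x ^ Fintype.card F = x) : ∃ c : F, algebraMap F K c = x := by
  classical
  have hne : (X ^ Fintype.card F - X : K[X]) ≠ 0 :=
    FiniteField.X_pow_card_sub_X_ne_zero K Fintype.one_lt_card
  have hsub : Finset.univ.map ⟨algebraMap F K, (algebraMap F K).injective⟩ ⊆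
      (X ^ Fintype.card F - X : K[X]).roots.toFinset := by
    intro y hy
    obtain ⟨c, -, rfl⟩ := Finset.mem_map.mp hy
    simp only [Function.Embedding.coeFn_mk, Multiset.mem_toFinset, mem_roots hne, IsRoot.def,
      eval_sub, eval_pow, eval_X, ← map_pow, FiniteField.pow_card, sub_self]
  have heq := Finset.eq_of_subset_of_card_le hsub (by
    rw [Finset.card_map, Finset.card_univ]
    exact (Multiset.toFinset_card_le _).trans ((card_roots' _).trans
      (by rw [FiniteField.X_pow_card_sub_X_natDegree_eq K Fintype.one_lt_card])))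
  have hmem : x ∈ (X ^ Fintype.card F - X : K[X]).roots.toFinset := by
    rw [Multiset.mem_toFinset, mem_roots hne]; simp [hx]
  rw [← heq, Finset.mem_map] at hmem
  obtain ⟨c, -, hc⟩ := hmem
  exact ⟨c, hc⟩

theorem dvd_minpoly_of_dvd_charpoly (A : Matrix (Fin n) (Fin n) F) {g : F[X]} (hg : Irreducible g)
    (h : g ∣ A.charpoly) : g ∣ minpoly F A := by
  classical
  have := Fact.mk hg
  let K := AdjoinRoot g
  let A' : Matrix (Fin n) (Fin n) K := A.map (algebraMap F K)
  have hroot : IsRoot A'.charpoly (AdjoinRoot.root g) := by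
    rw [show A'.charpoly = A.charpoly.map (algebraMap F K) from charpoly_map A _]
    obtain ⟨c, hc⟩ := h
    rw [hc, Polynomial.map_mul, IsRoot.def, eval_mul]
    have : (g.map (algebraMap F K)).eval (AdjoinRoot.root g) = 0 := AdjoinRoot.isRoot_root g
    rw [this, zero_mul]
  have hsp := mem_spectrum_of_isRoot_charpoly hroot
  have hz : aeval A' ((minpoly F A).map (algebraMap F K)) = 0 := by
    rw [aeval_map_algebraMap]
    have := aeval_algHom_apply ((Algebra.ofId F K).mapMatrix (m := Fin n)) A (minpoly F A)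
    rw [minpoly.aeval, map_zero] at this
    exact this
  have hmem := spectrum.subset_polynomial_aeval A' ((minpoly F A).map (algebraMap F K))
    ⟨_, hsp, rfl⟩
  rw [hz] at hmem
  rcases isEmpty_or_nonempty (Fin n) with he | he
  · exact absurd hsp (by simp [spectrum.of_subsingleton])
  rw [spectrum.zero_eq, Set.mem_singleton_iff] at hmem
  rw [← AdjoinRoot.mk_eq_zero, ← AdjoinRoot.aeval_eq, aeval_def, eval₂_eq_eval_map]
  exact hmem

/-- If some polynomial splitting is available then there is a proper idempotent in `F[A]`. -/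
theorem exists_idempotent_or_primary (A : Matrix (Fin n) (Fin n) F) (hn : 1 ≤ n) :
    (∃ E : Matrix (Fin n) (Fin n) F, E * E = E ∧ E ≠ 0 ∧ E ≠ 1 ∧ Commute A E) ∨
      ∃ (f : F[X]) (e : ℕ), f.Monic ∧ Irreducible f ∧ A.charpoly = f ^ e := by
  classical
  have hdeg : A.charpoly.natDegree = n := by rw [charpoly_natDegree_eq_dim, Fintype.card_fin]
  obtain ⟨f, hfm, hf, hfd⟩ := exists_monic_irreducible_factor A.charpoly
    (fun h => by rw [natDegree_eq_zero_of_isUnit h] at hdeg; omega)
  obtain ⟨e, c, hfc, hP⟩ := WfDvdMonoid.max_power_factor (charpoly_monic A).ne_zero hf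
  by_cases hc : IsUnit c
  · right
    have hcm : c.Monic := (hfm.pow e).of_mul_monic_left (hP ▸ charpoly_monic A)
    exact ⟨f, e, hfm, hf, by rw [hP, hcm.isUnit_iff.mp hc, mul_one]⟩
  left
  obtain ⟨g, hg, hgc⟩ := WfDvdMonoid.exists_irreducible_factor hc (by
    rintro rfl; exact hfc (dvd_zero f))
  set m := minpoly F A
  have hfm' : f ∣ m := dvd_minpoly_of_dvd_charpoly A hf hfd
  have hgm : g ∣ m := dvd_minpoly_of_dvd_charpoly A hg (hP ▸ hgc.trans (dvd_mul_left _ _))
  have hm0 : m ≠ 0 := minpoly.ne_zero (Matrix.isIntegral A)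
  obtain ⟨k, d, hfd', hm⟩ := WfDvdMonoid.max_power_factor hm0 hf
  have hgd : g ∣ d := by
    rcases hg.prime.dvd_or_dvd (hm ▸ hgm) with h | h
    · have := hg.associated_of_dvd hf (hg.prime.dvd_of_dvd_pow h)
      exact absurd (this.symm.dvd.trans hgc) hfc
    · exact h
  have hk : f ∣ f ^ k := by
    rcases k with _ | k
    · rw [pow_zero, one_mul] at hm; exact absurd (hm ▸ hfm') hfd'
    · exact dvd_pow_self f k.succ_ne_zero
  obtain ⟨u, v, huv⟩ := (hf.coprime_iff_not_dvd.mpr hfd').pow_left (m := k)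
  refine ⟨aeval A (u * f ^ k), ?_, ?_, ?_, ?_⟩
  · rw [← map_mul, ← sub_eq_zero, ← map_sub]
    rw [← minpoly.dvd_iff]
    refine ⟨-(u * v), ?_⟩
    have h1 : v * d = 1 - u * f ^ k := by rw [← huv]; ring
    calc u * f ^ k * (u * f ^ k) - u * f ^ k = -(u * f ^ k * (1 - u * f ^ k)) := by ring
      _ = _ := by rw [← h1, show minpoly F A = f ^ k * d from hm]; ring
  · intro h0
    have hd : m ∣ u * f ^ k := minpoly.dvd F A h0
    have : g ∣ (1 : F[X]) := huv ▸ dvd_add (hgm.trans hd) (hgd.mul_left v)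
    exact hg.not_isUnit (isUnit_of_dvd_one this)
  · intro h1
    have h0 : aeval A (v * d) = 0 := by
      have := congrArg (aeval A) huv
      rw [map_add, h1, map_one] at this
      simpa using this
    have : f ∣ (1 : F[X]) := huv ▸ dvd_add (hk.mul_left u) (hfm'.trans (minpoly.dvd F A h0))
    exact hf.not_isUnit (isUnit_of_dvd_one this)
  · exact ((Commute.all X (u * f ^ k)).map (aeval A)).symm.symm |> fun h => by simpa using h

/-- Primary case: the projective order divides the Singer order times a power of `p`. -/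
theorem primary_pow_mk_eq_one {p : ℕ} [Fact p.Prime] [CharP F p] {K : ℕ} (hK : n ≤ p ^ K)
    (A : Matrix.SpecialLinearGroup (Fin n) F) {f : F[X]} {e : ℕ} (hfm : f.Monic) (hf : Irreducible f)
    (hP : (A : Matrix (Fin n) (Fin n) F).charpoly = f ^ e) :
    (QuotientGroup.mk A : Matrix.ProjectiveSpecialLinearGroup (Fin n) F) ^
      (singerExp (Fintype.card F) n * p ^ K) = 1 := by
  classical
  have hq : 2 ≤ Fintype.card F := Fintype.one_lt_card
  have hdeg : f.natDegree * e = n := by
    rw [mul_comm, ← natDegree_pow, ← hP, charpoly_natDegree_eq_dim, Fintype.card_fin]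
  have := Fact.mk hf
  let L := AdjoinRoot f
  have hfin : Module.Finite F L := (AdjoinRoot.powerBasis hf.ne_zero).finite
  have : Finite L := Module.finite_of_finite F
  have := Fintype.ofFinite L
  have hrank : Module.finrank F L = f.natDegree := by
    rw [(AdjoinRoot.powerBasis hf.ne_zero).finrank, AdjoinRoot.powerBasis_dim]
  set lam : L := AdjoinRoot.root f with hlam
  have hnorm : algebraMap F L ((Algebra.norm F lam) ^ e) = 1 := by
    have h1 : Algebra.norm F lam = (-1) ^ f.natDegree * f.coeff 0 := by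
      have := Algebra.PowerBasis.norm_gen_eq_coeff_zero_minpoly (AdjoinRoot.powerBasis hf.ne_zero)
      rwa [AdjoinRoot.powerBasis_dim, AdjoinRoot.powerBasis_gen,
        AdjoinRoot.minpoly_root hf.ne_zero, hfm.leadingCoeff, inv_one, map_one, mul_one] at this
    have h2 := det_eq_sign_charpoly_coeff (A : Matrix (Fin n) (Fin n) F)
    have hdet : (A : Matrix (Fin n) (Fin n) F).det = 1 := A.2
    rw [hP, coeff_zero_eq_eval_zero, eval_pow, ← coeff_zero_eq_eval_zero, Fintype.card_fin,
      show (-1 : F) ^ n = ((-1) ^ f.natDegree) ^ e by rw [← pow_mul, hdeg],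
      ← mul_pow, ← h1, hdet] at h2
    rw [← h2, map_one]
  rw [map_pow, FiniteField.algebraMap_norm_eq_pow_sum, ← pow_mul, hrank, Nat.card_eq_fintype_card] at hnorm
  rcases Nat.eq_zero_or_pos n with hn | hn
  · subst hn
    exact (QuotientGroup.eq_one_iff _).mpr (by rw [Subsingleton.elim (A ^ _) 1]; exact one_mem _) |>
      fun h => (QuotientGroup.mk_pow _ _ _).symm.trans h
  have hlam0 : lam ≠ 0 := by
    intro h0
    rw [h0, zero_pow] at hnorm
    · exact zero_ne_one hnorm
    · apply Nat.mul_ne_zero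
      · rw [← Nat.pos_iff_ne_zero]
        exact Finset.sum_pos (fun i _ => pow_pos (by omega) i)
          (by simpa using hf.natDegree_pos.ne')
      · rintro rfl; omega
  have hord1 : orderOf lam ∣ e * geo (Fintype.card F) f.natDegree :=
    orderOf_dvd_of_pow_eq_one (by rw [mul_comm]; exact hnorm)
  have hord2 : orderOf lam ∣ Fintype.card F ^ f.natDegree - 1 := by
    apply orderOf_dvd_of_pow_eq_one
    have := FiniteField.pow_card_sub_one_eq_one lam hlam0
    rwa [Module.card_eq_pow_finrank (K := F), hrank] at this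
  have hkey := singer_key hq hord1 hord2
  rw [hdeg] at hkey
  set N := singerExp (Fintype.card F) n
  have hxq : (lam ^ N) ^ Fintype.card F = lam ^ N := by
    have h1 : (lam ^ N) ^ (Fintype.card F - 1) = 1 := by
      rw [← pow_mul]; exact orderOf_dvd_iff_pow_eq_one.mp hkey
    calc (lam ^ N) ^ Fintype.card F = (lam ^ N) ^ (Fintype.card F - 1) * lam ^ N := by
          rw [← pow_succ, Nat.sub_add_cancel (by omega)]
      _ = _ := by rw [h1, one_mul]
  obtain ⟨c, hc⟩ := mem_base_of_pow_card hxq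
  have hdvd : f ∣ X ^ N - C c := by
    rw [← AdjoinRoot.mk_eq_zero, map_sub, map_pow, AdjoinRoot.mk_X, AdjoinRoot.mk_C,
      ← AdjoinRoot.algebraMap_eq, hc, hlam, sub_self]
  have hdvd2 : (A : Matrix (Fin n) (Fin n) F).charpoly ∣ (X ^ N - C c) ^ p ^ K := by
    rw [hP]
    refine (pow_dvd_pow_of_dvd hdvd e).trans (pow_dvd_pow _ (le_trans ?_ hK))
    rw [← hdeg]; exact Nat.le_mul_of_pos_left e hf.natDegree_pos
  obtain ⟨s, hs⟩ := hdvd2
  rw [sub_pow_char_pow, ← pow_mul, ← map_pow] at hs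
  have h := congrArg (aeval (A : Matrix (Fin n) (Fin n) F)) hs
  rw [map_mul, aeval_self_charpoly, zero_mul, map_sub, map_pow, aeval_X, aeval_C, sub_eq_zero] at h
  rw [← QuotientGroup.mk_pow, mk_eq_one_iff]
  exact ⟨c ^ p ^ K, by rw [Matrix.SpecialLinearGroup.coe_pow, h]; rfl⟩

/-- A proper idempotent gives an element of order `r` of `PSL_n(q)` commuting with it. -/
theorem exists_order_r_of_idempotent {r : ℕ} (hr : r.Prime) (hrq : r ∣ Fintype.card F - 1) (hrn : ¬ r ∣ n)
    {E : Matrix (Fin n) (Fin n) F} (hE : E * E = E) (h0 : E ≠ 0) (h1 : E ≠ 1) :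
    ∃ W : Matrix.SpecialLinearGroup (Fin n) F,
      orderOf (QuotientGroup.mk W : Matrix.ProjectiveSpecialLinearGroup (Fin n) F) = r ∧
      ∀ M : Matrix (Fin n) (Fin n) F, Commute M E → Commute M (W : Matrix (Fin n) (Fin n) F) := by
  classical
  have := Fact.mk hr
  obtain ⟨z, hz⟩ := exists_prime_orderOf_dvd_card' (G := Fˣ) r
    (by rwa [Nat.card_units, Nat.card_eq_fintype_card])
  set W0 : Matrix (Fin n) (Fin n) F := 1 + ((z : F) - 1) • E with hW0
  have hpow : ∀ j : ℕ, W0 ^ j = 1 + ((z : F) ^ j - 1) • E := by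
    intro j
    induction j with
    | zero => simp
    | succ j ih =>
      rw [pow_succ, ih, hW0]
      simp only [mul_add, add_mul, one_mul, mul_one, Matrix.smul_mul, Matrix.mul_smul, hE, smul_smul]
      rw [pow_succ, add_assoc, add_right_inj, ← add_smul, ← add_smul]
      congr 1
      ring
  have hzr : (z : F) ^ r = 1 := by
    rw [← Units.val_pow_eq_pow_val, ← hz, pow_orderOf_eq_one, Units.val_one]
  have hWr : W0 ^ r = 1 := by rw [hpow, hzr, sub_self, zero_smul, add_zero]
  have hdet : W0.det ^ r = 1 := by rw [← det_pow, hWr, det_one]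
  obtain ⟨k, -, hk⟩ := (show IsPrimitiveRoot (z : F) r by rw [← hz, ← orderOf_units]; exact IsPrimitiveRoot.orderOf _).eq_pow_of_pow_eq_one hdet
  -- choose `t` with `r ∣ t * n + k`
  have hn0 : (n : ZMod r) ≠ 0 := by rwa [Ne, ZMod.natCast_eq_zero_iff]
  set t : ℕ := (-(k : ZMod r) / n).val
  have ht : r ∣ t * n + k := by
    rw [← ZMod.natCast_eq_zero_iff]
    simp [t, ZMod.natCast_zmod_val, div_mul_cancel₀ _ hn0]
  have hdetW : (((z : F) ^ t) • W0).det = 1 := by
    rw [det_smul, Fintype.card_fin, ← pow_mul, ← hk, ← pow_add]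
    obtain ⟨c, hc⟩ := ht
    rw [hc, pow_mul, hzr, one_pow]
  let W : Matrix.SpecialLinearGroup (Fin n) F := ⟨(z : F) ^ t • W0, hdetW⟩
  refine ⟨W, ?_, fun M hM => ?_⟩
  · apply orderOf_eq_prime
    · rw [← QuotientGroup.mk_pow, mk_eq_one_iff]
      refine ⟨1, ?_⟩
      rw [Matrix.SpecialLinearGroup.coe_pow, map_one]
      show ((z : F) ^ t • W0) ^ r = 1
      rw [_root_.smul_pow, hWr, ← pow_mul, mul_comm, pow_mul, hzr, one_pow, one_smul]
    · rw [Ne, mk_eq_one_iff]
      rintro ⟨c, hc⟩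
      have hc' : (z : F) ^ t • W0 = scalar (Fin n) c := hc
      have hz1 : (z : F) - 1 ≠ 0 := by
        rw [sub_ne_zero, Ne, Units.val_eq_one]
        intro h; rw [h, orderOf_one] at hz; exact hr.one_lt.ne hz
      -- `E` would be scalar, hence `0` or `1`
      have hEs : E = ((c / (z : F) ^ t - 1) / ((z : F) - 1)) • (1 : Matrix (Fin n) (Fin n) F) := by
        have hzt : (z : F) ^ t ≠ 0 := pow_ne_zero _ z.ne_zero
        have h2 : W0 = (c / (z : F) ^ t) • (1 : Matrix (Fin n) (Fin n) F) := by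
          have := congrArg (fun M => ((z : F) ^ t)⁻¹ • M) hc'
          simp only [smul_smul, inv_mul_cancel₀ hzt, one_smul] at this
          rw [this, scalar_apply, ← smul_one_eq_diagonal, smul_smul, div_eq_inv_mul]
        have h3 : ((z : F) - 1) • E = (c / (z : F) ^ t - 1) • (1 : Matrix (Fin n) (Fin n) F) := by
          rw [sub_smul (c / _), ← h2, one_smul, hW0]; abel
        rw [div_eq_inv_mul (_ - 1), ← smul_smul, ← h3, smul_smul, inv_mul_cancel₀ hz1, one_smul]
      generalize ((c / (z : F) ^ t - 1) / ((z : F) - 1)) = s at hEs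
      have hn' : n ≠ 0 := fun h => hrn (h ▸ dvd_zero r)
      have hss : s * s = s := by
        have h4 := congrFun (congrFun hE ⟨0, by omega⟩) ⟨0, by omega⟩
        simpa [hEs, Matrix.smul_apply] using h4
      rcases eq_or_ne s 0 with h | h
      · exact h0 (by rw [hEs, h, zero_smul])
      · have : s = 1 := mul_left_cancel₀ h (by rw [hss, mul_one])
        exact h1 (by rw [hEs, this, one_smul])
  · show Commute M ((z : F) ^ t • W0)
    exact (((Commute.one_right M).add_right (hM.smul_right _))).smul_right _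

/-- The dichotomy. -/
theorem orderOf_dichotomy {p : ℕ} [Fact p.Prime] [CharP F p] {r K : ℕ} (hr : r.Prime)
    (hrq : r ∣ Fintype.card F - 1) (hrn : ¬ r ∣ n) (hn : 1 ≤ n) (hK : n ≤ p ^ K)
    (a : Matrix.ProjectiveSpecialLinearGroup (Fin n) F) :
    (∃ b : Matrix.ProjectiveSpecialLinearGroup (Fin n) F, orderOf b = Nat.lcm (orderOf a) r) ∨ orderOf a ∣ singerExp (Fintype.card F) n * p ^ K := by
  obtain ⟨A, rfl⟩ := QuotientGroup.mk_surjective a
  set a : Matrix.ProjectiveSpecialLinearGroup (Fin n) F := QuotientGroup.mk A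
  rcases exists_idempotent_or_primary (A : Matrix (Fin n) (Fin n) F) hn with
    ⟨E, hE, h0, h1, hcomm⟩ | ⟨f, e, hfm, hf, hP⟩
  · left
    by_cases hra : r ∣ orderOf a
    · exact ⟨a, (Nat.lcm_eq_left hra).symm⟩
    obtain ⟨W, hW, hWc⟩ := exists_order_r_of_idempotent hr hrq hrn hE h0 h1
    have hc : Commute A W := Subtype.ext (hWc _ hcomm)
    have hc' : Commute a (QuotientGroup.mk W) := hc.map
      (QuotientGroup.mk' (Subgroup.center (Matrix.SpecialLinearGroup (Fin n) F)))
    refine ⟨a * QuotientGroup.mk W, ?_⟩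
    rw [hc'.orderOf_mul_eq_mul_orderOf_of_coprime, hW, Nat.Coprime.lcm_eq_mul]
    · exact ((hr.coprime_iff_not_dvd.mpr hra)).symm
    · rw [hW]; exact ((hr.coprime_iff_not_dvd.mpr hra)).symm
  · exact Or.inr (orderOf_dvd_of_pow_eq_one (primary_pow_mk_eq_one hK A hfm hf hP))

/-- `PSL_n(q)` has an element of order `singerExp q n`. -/
theorem exists_orderOf_singerExp (hn : 1 ≤ n) :
    ∃ b : Matrix.ProjectiveSpecialLinearGroup (Fin n) F, orderOf b = singerExp (Fintype.card F) n := by
  classical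
  obtain ⟨p, hp⟩ := CharP.exists F
  have := Fact.mk (CharP.char_is_prime F p)
  have : NeZero n := ⟨by omega⟩
  let L := FiniteField.Extension F p n
  have hrank : Module.finrank F L = n := FiniteField.finrank_extension F p n
  have hq : 2 ≤ Fintype.card F := Fintype.one_lt_card
  obtain ⟨u, hu⟩ := IsCyclic.exists_ofOrder_eq_natCard (α := Lˣ)
  rw [Nat.card_units, FiniteField.natCard_extension, Nat.card_eq_fintype_card] at hu
  let b := Module.finBasisOfFinrankEq F L hrank
  have hdet : (Algebra.leftMulMatrix b ((u : L) ^ (Fintype.card F - 1))).det = 1 := by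
    rw [← Algebra.norm_eq_matrix_det, map_pow]
    exact FiniteField.pow_card_sub_one_eq_one _ (Algebra.norm_ne_zero_iff.mpr u.ne_zero)
  let G : Matrix.SpecialLinearGroup (Fin n) F := ⟨_, hdet⟩
  refine ⟨QuotientGroup.mk G, ?_⟩
  set q := Fintype.card F with hqdef
  set N := singerExp q n with hN
  have hgeo : 0 < geo q n := by
    apply Nat.pos_of_ne_zero
    intro h
    have := geo_mul q n (by omega)
    rw [h, zero_mul] at this
    have := Nat.one_lt_pow (show n ≠ 0 by omega) (show 1 < q by omega)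
    omega
  have hpos : 0 < N :=
    Nat.div_pos (Nat.le_of_dvd hgeo (gcd_dvd_geo (by omega) n)) (Nat.gcd_pos_of_pos_left _ hn)
  -- `γ^j` is scalar iff `N ∣ j`
  have key : ∀ j : ℕ, (QuotientGroup.mk G : Matrix.ProjectiveSpecialLinearGroup (Fin n) F) ^ j = 1 ↔ N ∣ j := by
    intro j
    rw [← QuotientGroup.mk_pow, mk_eq_one_iff]
    have h1 : ∀ c : F, ((G ^ j : Matrix.SpecialLinearGroup (Fin n) F) : Matrix (Fin n) (Fin n) F) = scalar (Fin n) c ↔
        ((u : L) ^ (q - 1)) ^ j = algebraMap F L c := by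
      intro c
      rw [Matrix.SpecialLinearGroup.coe_pow]
      show (Algebra.leftMulMatrix b ((u : L) ^ (q - 1))) ^ j = _ ↔ _
      rw [← map_pow, ← (Algebra.leftMulMatrix_injective b).eq_iff, AlgHom.commutes]
      rfl
    simp only [h1]
    have h2 : (∃ c : F, ((u : L) ^ (q - 1)) ^ j = algebraMap F L c) ↔ geo q n ∣ j * (q - 1) := by
      constructor
      · rintro ⟨c, hc⟩
        have hc0 : c ≠ 0 := by
          rintro rfl
          rw [map_zero] at hc
          exact pow_ne_zero _ (pow_ne_zero _ u.ne_zero) hc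
        have h3 : ((u : L) ^ (q - 1)) ^ j ^ 1 * 1 = algebraMap F L c := by simpa using hc
        have h4 : u ^ ((q - 1) * j * (q - 1)) = 1 := by
          apply Units.ext
          rw [Units.val_pow_eq_pow_val, pow_mul, pow_mul, hc, ← map_pow,
            FiniteField.pow_card_sub_one_eq_one c hc0, map_one, Units.val_one]
        have h5 := orderOf_dvd_of_pow_eq_one h4
        rw [hu, ← geo_mul q n (by omega), mul_comm (q - 1) j] at h5
        exact Nat.dvd_of_mul_dvd_mul_right (by omega) h5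
      · intro hd
        have h4 : (((u : L) ^ (q - 1)) ^ j) ^ (q - 1) = 1 := by
          rw [← pow_mul, ← pow_mul, ← Units.val_pow_eq_pow_val, Units.val_eq_one, ← orderOf_dvd_iff_pow_eq_one,
            hu, ← geo_mul q n (by omega), mul_comm (geo q n)]
          exact mul_dvd_mul_left _ hd
        obtain ⟨c, hc⟩ := mem_base_of_pow_card (F := F) (x := ((u : L) ^ (q - 1)) ^ j) (by
          calc _ = (((u : L) ^ (q - 1)) ^ j) ^ (q - 1) * (((u : L) ^ (q - 1)) ^ j) := by
                rw [← pow_succ, Nat.sub_add_cancel (by omega)]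
            _ = _ := by rw [h4, one_mul])
        exact ⟨c, hc.symm⟩
    rw [h2]
    have hg : Nat.gcd (geo q n) (q - 1) = Nat.gcd n (q - 1) :=
      Nat.ModEq.gcd_eq (geo_modEq (self_modEq_one (by omega)) n)
    rw [hN, singerExp, ← hg]
    exact dvd_mul_iff_div_gcd hgeo
  exact Nat.dvd_antisymm (orderOf_dvd_of_pow_eq_one ((key N).mpr dvd_rfl))
    ((key _).mp (pow_orderOf_eq_one _))

/-- The image in `PSL` of an element of `p`-power order of `SL` has the same order. -/
theorem orderOf_mk_of_ppow {p : ℕ} [Fact p.Prime] [CharP F p] {G : Matrix.SpecialLinearGroup (Fin n) F}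
    {K : ℕ} (hG : orderOf G = p ^ K) :
    orderOf (QuotientGroup.mk G : Matrix.ProjectiveSpecialLinearGroup (Fin n) F) = p ^ K := by
  rw [← hG]
  refine Nat.dvd_antisymm (orderOf_map_dvd (QuotientGroup.mk' _) G) ?_
  apply orderOf_dvd_of_pow_eq_one
  set j := orderOf (QuotientGroup.mk G : Matrix.ProjectiveSpecialLinearGroup (Fin n) F)
  obtain ⟨c, hcn, hc⟩ := center_scalar ((QuotientGroup.eq_one_iff (G ^ j)).mp
    (by rw [QuotientGroup.mk_pow]; exact pow_orderOf_eq_one _))
  have h1 : (G ^ j) ^ p ^ K = 1 := by rw [← pow_mul, mul_comm, pow_mul, ← hG, pow_orderOf_eq_one, one_pow]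
  rcases Nat.eq_zero_or_pos n with rfl | hn
  · exact Subsingleton.elim _ _
  have h2 := congrArg (fun M : Matrix.SpecialLinearGroup (Fin n) F => (M : Matrix (Fin n) (Fin n) F)) h1
  simp only [Matrix.SpecialLinearGroup.coe_one, Matrix.SpecialLinearGroup.coe_pow] at h2
  rw [← Matrix.SpecialLinearGroup.coe_pow, hc, ← map_pow] at h2
  have : Nonempty (Fin n) := ⟨⟨0, hn⟩⟩
  have h3 : c ^ p ^ K = 1 := scalar_inj.mp (h2.trans (map_one _).symm)
  have : c = 1 := by
    have h4 : (c - 1) ^ p ^ K = 0 := by rw [sub_pow_char_pow, h3, one_pow, sub_self]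
    exact sub_eq_zero.mp (eq_zero_of_pow_eq_zero h4)
  exact Subtype.ext (by rw [hc, this, map_one]; rfl)

theorem coprime_singerExp {p a q n : ℕ} (hp : p.Prime) (ha : 1 ≤ a) (hq : q = p ^ a) (hn : 1 ≤ n)
    (K : ℕ) : Nat.Coprime (singerExp q n) (p ^ K) := by
  refine Nat.Coprime.pow_right _ ?_
  have hq1 : 1 ≤ q := hq ▸ Nat.one_le_pow _ _ hp.pos
  refine Nat.Coprime.coprime_dvd_left ((Nat.div_dvd_of_dvd (gcd_dvd_geo hq1 n)).trans (dvd_refl _)) ?_
  rw [Nat.coprime_comm, hp.coprime_iff_not_dvd]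
  intro h
  obtain ⟨m, rfl⟩ : ∃ m, n = m + 1 := ⟨n - 1, by omega⟩
  have hqp : p ∣ q := hq ▸ dvd_pow_self p (by omega)
  have h1 : p ∣ ∑ i ∈ Finset.range m, q ^ (i + 1) :=
    Finset.dvd_sum fun i _ => dvd_pow hqp (Nat.succ_ne_zero i)
  rw [geo, Finset.sum_range_succ', pow_zero] at h
  exact hp.not_dvd_one ((Nat.dvd_add_right h1).mp h)

/-- A block matrix `diag(A, 1)` commutes with the projection on the last coordinate. -/
theorem commute_blockHom_last {n : ℕ} {hn : n - 1 < n} (hle : n - 1 ≤ n)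
    (A : Matrix (Fin (n - 1)) (Fin (n - 1)) F) :
    Commute (MatOrder.blockHom hle A) (Matrix.single (⟨n - 1, hn⟩ : Fin n) ⟨n - 1, hn⟩ (1 : F)) := by
  set e : Fin (n - 1) ⊕ Fin (n - (n - 1)) ≃ Fin n :=
    finSumFinEquiv.trans (finCongr (Nat.add_sub_of_le hle)) with he
  have h1 : (⟨n - 1, hn⟩ : Fin n) = e (Sum.inr ⟨0, by omega⟩) := by
    simp [he, Fin.ext_iff]
  have h2 : Matrix.single (⟨n - 1, hn⟩ : Fin n) ⟨n - 1, hn⟩ (1 : F) =
      Matrix.reindexAlgEquiv F F e (Matrix.fromBlocks 0 0 0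
        (Matrix.single ⟨0, by omega⟩ ⟨0, by omega⟩ 1)) := by
    ext i j
    obtain ⟨i, rfl⟩ := e.surjective i
    obtain ⟨j, rfl⟩ := e.surjective j
    rw [h1, Matrix.reindexAlgEquiv_apply, Matrix.reindex_apply, Matrix.submatrix_apply,
      Equiv.symm_apply_apply, Equiv.symm_apply_apply]
    rcases i with i | i <;> rcases j with j | j <;> simp [Matrix.single, e.injective.eq_iff]
  rw [h2]
  refine Commute.map (f := Matrix.reindexAlgEquiv F F e) ?_
  simp [Commute, SemiconjBy, Matrix.fromBlocks_multiply]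

end CfsgLib.SpectrumPSL
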