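import Mathlib
import Cfsg.Agent.GLClass.PrimeOrder
import Cfsg.Agent.GLClass.Unipotent
import Cfsg.Agent.Classical.SylowLargePrime
import Cfsg.Agent.Spectrum.Basic
import Cfsg.Agent.Spectrum.PSL

/-!
Element orders `r * s` and `r * p` in `GL n` and `PSL n` through elementary divisors.
-/

set_option autoImplicit false

namespace CfsgLib.GLPairs

open Polynomial Module

variable {F : Type*} [Field F] [Fintype F] {n : ℕ}

omit [Fintype F] in
theorem aeval_eq_zero_of_elemDiv {A : Matrix (Fin n) (Fin n) F} {f : F[X]}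
    (h : ∀ x ∈ GLClass.elemDiv A, x.1 ^ x.2 ∣ f) : aeval A f = 0 := by
  obtain ⟨N, q, e, hd, hqe, ⟨ψ⟩⟩ := GLClass.exists_data_eq A
  have hq : ∀ i, q i ^ e i ∣ f := fun i =>
    h (q i, e i) (by rw [hd]; exact Multiset.mem_map_of_mem _ (Finset.mem_univ i))
  have h1 : ∀ x : GLClass.Model q e, f • x = 0 := fun x => funext fun i => by
    obtain ⟨y, hy⟩ := Submodule.Quotient.mk_surjective _ (x i)
    rw [Pi.smul_apply, Pi.zero_apply, ← hy, ← Submodule.Quotient.mk_smul, Submodule.Quotient.mk_eq_zero]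
    exact Ideal.mem_span_singleton.2 (by rw [smul_eq_mul]; exact (hq i).trans (dvd_mul_right _ _))
  apply Matrix.toLin'.injective
  rw [map_zero, ← GLClass.aeval_toLin']
  refine LinearMap.ext fun v => ?_
  have h2 : f • AEval'.of (Matrix.toLin' A) v = 0 := ψ.injective (by rw [map_smul, h1, map_zero])
  rw [← Module.AEval.of_aeval_smul, LinearEquiv.map_eq_zero_iff] at h2
  exact h2

omit [Fintype F] in
theorem pow_eq_one_of_elemDiv {g : GL (Fin n) F} {N : ℕ}
    (h : ∀ x ∈ GLClass.elemDiv (g : Matrix (Fin n) (Fin n) F), x.1 ^ x.2 ∣ X ^ N - 1) : g ^ N = 1 := by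
  apply Units.ext
  rw [Units.val_pow_eq_pow_val, Units.val_one, ← sub_eq_zero]
  simpa using aeval_eq_zero_of_elemDiv h

omit [Fintype F] in
theorem deg_le {A : Matrix (Fin n) (Fin n) F} {x : F[X] × ℕ} (hx : x ∈ GLClass.elemDiv A) :
    x.2 * x.1.natDegree ≤ n :=
  (Multiset.le_sum_of_mem (Multiset.mem_map_of_mem (fun x => x.2 * x.1.natDegree) hx)).trans_eq
    (GLClass.sum_elemDiv A)

omit [Fintype F] in
theorem deg_add_le {A : Matrix (Fin n) (Fin n) F} {x y : F[X] × ℕ} (hx : x ∈ GLClass.elemDiv A)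
    (hy : y ∈ GLClass.elemDiv A) (hxy : x ≠ y) :
    x.2 * x.1.natDegree + y.2 * y.1.natDegree ≤ n := by
  obtain ⟨t, ht⟩ := Multiset.exists_cons_of_mem hx
  rw [ht, Multiset.mem_cons] at hy
  have hyt := hy.resolve_left (Ne.symm hxy)
  calc x.2 * x.1.natDegree + y.2 * y.1.natDegree ≤ x.2 * x.1.natDegree + (t.map fun x => x.2 * x.1.natDegree).sum :=
        Nat.add_le_add_left (Multiset.le_sum_of_mem (Multiset.mem_map_of_mem (fun x => x.2 * x.1.natDegree) hyt)) _
    _ = n := by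
        conv_rhs => rw [← GLClass.sum_elemDiv A, ht, Multiset.map_cons, Multiset.sum_cons]

variable (p : ℕ) [Fact p.Prime] [CharP F p]

/-- An irreducible factor of `X ^ N - 1` divides a cyclotomic polynomial and has the corresponding degree. -/
theorem natDegree_of_dvd {N : ℕ} (hN : 0 < N) (hNp : N.Coprime p) {P : F[X]} (hP : Irreducible P)
    (h : P ∣ X ^ N - 1) :
    ∃ d, d ∣ N ∧ P ∣ cyclotomic d F ∧ P.natDegree = orderOf ((Fintype.card F : ℕ) : ZMod d) := by
  rw [← prod_cyclotomic_eq_X_pow_sub_one hN] at h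
  obtain ⟨d, hd, hPd⟩ := (hP.prime.dvd_finsetProd_iff _).1 h
  have hdN := Nat.dvd_of_mem_divisors hd
  obtain ⟨m, hp, hq⟩ := FiniteField.card F p
  have hn : p.Coprime d := (hNp.coprime_dvd_left hdN).symm
  refine ⟨d, hdN, hPd, ?_⟩
  rw [natDegree_of_dvd_cyclotomic_of_irreducible hq hn hPd hP, ← orderOf_units, ZMod.coe_unitOfCoprime, hq]

/-- If `g ^ (r * s) = 1` but `g ^ s ≠ 1`, some elementary divisor has degree divisible by the order of `q` mod `r`. -/
theorem exists_mem_deg {g : GL (Fin n) F} {r s : ℕ} (hr : r.Prime) (hs : 0 < s)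
    (hcop : (r * s).Coprime p) (hg : g ^ (r * s) = 1) (hne : g ^ s ≠ 1) :
    ∃ x ∈ GLClass.elemDiv (g : Matrix (Fin n) (Fin n) F), ∃ d, d ∣ r * s ∧ r ∣ d ∧
      x.1 ∣ cyclotomic d F ∧ orderOf ((Fintype.card F : ℕ) : ZMod r) ∣ x.1.natDegree := by
  by_contra hcon
  push_neg at hcon
  refine hne (pow_eq_one_of_elemDiv fun x hx => ?_)
  have hrs : 0 < r * s := Nat.mul_pos hr.pos hs
  have hF : (((r * s : ℕ)) : F) ≠ 0 := fun h =>
    ((Fact.out : p.Prime).coprime_iff_not_dvd.1 hcop.symm) ((CharP.cast_eq_zero_iff F p _).1 h)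
  have hA : (g : Matrix (Fin n) (Fin n) F) ^ (r * s) = 1 := by
    rw [← Units.val_pow_eq_pow_val, hg, Units.val_one]
  have h1 := GLClass.exp_eq_one hA hF hx
  have h2 := GLClass.pow_dvd_of_aeval (A := (g : Matrix (Fin n) (Fin n) F)) (q := X ^ (r * s) - 1)
    (by simp [hA]) hx
  rw [h1, pow_one] at h2 ⊢
  obtain ⟨d, hd, hPd, hdeg⟩ := natDegree_of_dvd p hrs hcop (GLClass.elemDiv_spec _ hx).2.1 h2
  by_cases hrd : r ∣ d
  · exfalso
    refine hcon x hx d hd hrd hPd ?_
    rw [hdeg]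
    simpa using orderOf_map_dvd (ZMod.castHom hrd (ZMod r)).toMonoidHom ((Fintype.card F : ℕ) : ZMod d)
  · have hds : d ∣ s := ((hr.coprime_iff_not_dvd.2 hrd).symm).dvd_of_dvd_mul_left hd
    refine hPd.trans ((cyclotomic.dvd_X_pow_sub_one d F).trans ?_)
    obtain ⟨c, rfl⟩ := hds
    rw [pow_mul]
    exact sub_one_dvd_pow_sub_one (X ^ d) c

theorem le_of_orderOf_eq {g : GL (Fin n) F} {r : ℕ} (hr : r.Prime) (hrp : r ≠ p) (hg : orderOf g = r) :
    orderOf ((Fintype.card F : ℕ) : ZMod r) ≤ n := by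
  have hcop : (r * 1).Coprime p := by rw [mul_one]; exact (Nat.coprime_primes hr Fact.out).2 hrp
  obtain ⟨x, hx, d, -, -, -, hdvd⟩ := exists_mem_deg p (g := g) hr one_pos hcop
    (by rw [mul_one, ← hg, pow_orderOf_eq_one])
    (fun h => hr.one_lt.ne' (by rw [← hg, orderOf_eq_one_iff]; rwa [pow_one] at h))
  have h1 := deg_le hx
  have h2 := (GLClass.elemDiv_spec _ hx)
  calc orderOf ((Fintype.card F : ℕ) : ZMod r) ≤ x.1.natDegree := Nat.le_of_dvd h2.2.1.natDegree_pos hdvd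
    _ ≤ x.2 * x.1.natDegree := Nat.le_mul_of_pos_left _ h2.2.2
    _ ≤ n := h1

/-- Necessity for two primes different from the characteristic. -/
theorem rs_necessary {g : GL (Fin n) F} {r s : ℕ} (hr : r.Prime) (hs : s.Prime) (hrp : r ≠ p) (hsp : s ≠ p)
    (hrs : r ≠ s) (hg : orderOf g = r * s) :
    orderOf ((Fintype.card F : ℕ) : ZMod r) + orderOf ((Fintype.card F : ℕ) : ZMod s) ≤ n ∨
      Nat.lcm (orderOf ((Fintype.card F : ℕ) : ZMod r)) (orderOf ((Fintype.card F : ℕ) : ZMod s)) ≤ n := by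
  have hcop : (r * s).Coprime p :=
    ((Nat.coprime_primes hr Fact.out).2 hrp).mul_left ((Nat.coprime_primes hs Fact.out).2 hsp)
  have h1 : g ^ (r * s) = 1 := by rw [← hg, pow_orderOf_eq_one]
  have hns : g ^ s ≠ 1 := fun h => by
    have h' := Nat.le_of_dvd hs.pos (orderOf_dvd_of_pow_eq_one h)
    rw [hg] at h'
    nlinarith [hr.two_le, hs.two_le]
  have hnr : g ^ r ≠ 1 := fun h => by
    have h' := Nat.le_of_dvd hr.pos (orderOf_dvd_of_pow_eq_one h)
    rw [hg] at h'
    nlinarith [hr.two_le, hs.two_le]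
  obtain ⟨x, hx, -, -, -, -, hxk⟩ := exists_mem_deg p hr hs.pos hcop h1 hns
  obtain ⟨y, hy, -, -, -, -, hyl⟩ := exists_mem_deg p (g := g) (r := s) (s := r) hs hr.pos
    (by rwa [mul_comm]) (by rwa [mul_comm]) hnr
  have hxs := GLClass.elemDiv_spec _ hx
  have hys := GLClass.elemDiv_spec _ hy
  by_cases hxy : x = y
  · right
    subst hxy
    calc Nat.lcm _ _ ≤ x.1.natDegree := Nat.le_of_dvd hxs.2.1.natDegree_pos (Nat.lcm_dvd hxk hyl)
      _ ≤ x.2 * x.1.natDegree := Nat.le_mul_of_pos_left _ hxs.2.2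
      _ ≤ n := deg_le hx
  · left
    refine le_trans (Nat.add_le_add ?_ ?_) (deg_add_le hx hy hxy)
    · exact (Nat.le_of_dvd hxs.2.1.natDegree_pos hxk).trans (Nat.le_mul_of_pos_left _ hxs.2.2)
    · exact (Nat.le_of_dvd hys.2.1.natDegree_pos hyl).trans (Nat.le_mul_of_pos_left _ hys.2.2)

/-- Necessity for a prime and the characteristic. -/
theorem rp_necessary {g : GL (Fin n) F} {r : ℕ} (hr : r.Prime) (hrp : r ≠ p) (hg : orderOf g = r * p) :
    orderOf ((Fintype.card F : ℕ) : ZMod r) + 2 ≤ n ∨ 2 * orderOf ((Fintype.card F : ℕ) : ZMod r) ≤ n := by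
  have hp : p.Prime := Fact.out
  have hcop : r.Coprime p := (Nat.coprime_primes hr hp).2 hrp
  set A := (g : Matrix (Fin n) (Fin n) F) with hA
  have hdvd : ∀ x ∈ GLClass.elemDiv A, x.1 ∣ (X : F[X]) ^ r - 1 := by
    intro x hx
    have h := GLClass.pow_dvd_of_aeval (A := A) (q := ((X : F[X]) ^ r - 1) ^ p) ?_ hx
    · exact (GLClass.elemDiv_spec _ hx).2.1.prime.dvd_of_dvd_pow
        ((dvd_pow_self _ (GLClass.elemDiv_spec _ hx).2.2.ne').trans h)
    · rw [sub_pow_char, one_pow, ← pow_mul, map_sub, map_pow, aeval_X, map_one, sub_eq_zero, hA,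
        ← Units.val_pow_eq_pow_val, ← hg, pow_orderOf_eq_one, Units.val_one]
  obtain ⟨x, hx, hxk⟩ : ∃ x ∈ GLClass.elemDiv A,
      orderOf ((Fintype.card F : ℕ) : ZMod r) ∣ x.1.natDegree := by
    by_contra hcon
    push_neg at hcon
    have hall : ∀ x ∈ GLClass.elemDiv A, x.1 = X - C 1 := by
      intro x hx
      obtain ⟨d, hd, hPd, hdeg⟩ := natDegree_of_dvd p hr.pos hcop (GLClass.elemDiv_spec _ hx).2.1 (hdvd x hx)
      rcases (Nat.dvd_prime hr).1 hd with rfl | rfl
      · rw [cyclotomic_one] at hPd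
        refine eq_of_monic_of_associated (GLClass.elemDiv_spec _ hx).1 (monic_X_sub_C 1) ?_
        rw [C_1]
        exact (GLClass.elemDiv_spec _ hx).2.1.associated_of_dvd (by simpa using irreducible_X_sub_C (1 : F)) hPd
      · exact absurd (hdeg ▸ dvd_rfl) (hcon x hx)
    have hnil : aeval A ((X - C (1 : F)) ^ n) = 0 := aeval_eq_zero_of_elemDiv fun x hx => by
      rw [hall x hx]; exact pow_dvd_pow _ (GLClass.exp_le A hx)
    obtain ⟨k, hk⟩ := (GLClass.sub_one_pow_iff p g).2 (by simpa [hA] using hnil)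
    rw [hg] at hk
    have h := hr.dvd_of_dvd_pow (hk ▸ dvd_mul_right r p)
    exact hrp ((Nat.prime_dvd_prime_iff_eq hr hp).1 h)
  obtain ⟨y, hy, hy2⟩ : ∃ y ∈ GLClass.elemDiv A, 2 ≤ y.2 := by
    by_contra hcon
    push_neg at hcon
    have h := pow_eq_one_of_elemDiv (g := g) (N := r) fun z hz => by
      rw [show z.2 = 1 by have := hcon z hz; have := (GLClass.elemDiv_spec _ hz).2.2; omega, pow_one]
      exact hdvd z hz
    have h' := Nat.le_of_dvd hr.pos (orderOf_dvd_of_pow_eq_one h)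
    rw [hg] at h'
    nlinarith [hr.two_le, hp.two_le]
  have hxs := GLClass.elemDiv_spec _ hx
  have hys := GLClass.elemDiv_spec _ hy
  by_cases hxy : x = y
  · right
    subst hxy
    exact le_trans (Nat.mul_le_mul hy2 (Nat.le_of_dvd hxs.2.1.natDegree_pos hxk)) (deg_le hx)
  · left
    refine le_trans (Nat.add_le_add ?_ ?_) (deg_add_le hx hy hxy)
    · exact (Nat.le_of_dvd hxs.2.1.natDegree_pos hxk).trans (Nat.le_mul_of_pos_left _ hxs.2.2)
    · exact hy2.trans (Nat.le_mul_of_pos_right _ hys.2.1.natDegree_pos)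

omit p in
/-- Block diagonal embedding. -/
theorem exists_gl_sum {a b : ℕ} (h : a + b ≤ n) (x : GL (Fin a) F) (y : GL (Fin b) F) :
    ∃ g : GL (Fin n) F, orderOf g = Nat.lcm (orderOf x) (orderOf y) := by
  classical
  let φ : Matrix (Fin a) (Fin a) F × Matrix (Fin b) (Fin b) F →* Matrix (Fin (a + b)) (Fin (a + b)) F :=
    { toFun := fun z => Matrix.reindexAlgEquiv F F finSumFinEquiv (Matrix.fromBlocks z.1 0 0 z.2)
      map_one' := by rw [Prod.fst_one, Prod.snd_one, Matrix.fromBlocks_one, map_one]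
      map_mul' := fun z w => by rw [← map_mul, Matrix.fromBlocks_multiply]; simp }
  have hφ : Function.Injective φ := fun z w hzw => by
    have h' := Matrix.fromBlocks_inj.1 ((Matrix.reindexAlgEquiv F F _).injective hzw)
    exact Prod.ext h'.1 h'.2.2.2
  obtain ⟨g, hg⟩ := CfsgLib.MatOrder.exists_orderOf_gl_of_le h
    (Units.map φ (MulEquiv.prodUnits.symm (x, y)))
  refine ⟨g, ?_⟩
  rw [hg, orderOf_injective _ (Units.map_injective hφ), MulEquiv.orderOf_eq, Prod.orderOf]

omit p in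
theorem exists_gl_of_dvd {i m : ℕ} (hi : 1 ≤ i) (hm : m ∣ Fintype.card F ^ i - 1) :
    ∃ g : GL (Fin i) F, orderOf g = m := by
  obtain ⟨g, hg⟩ := CfsgLib.MatOrder.exists_gl_orderOf_singer F hi
  exact CfsgLib.Spectrum.exists_orderOf_eq_of_dvd (orderOf_pos g) (hg ▸ hm)

omit p in
/-- Orders prime to `q - 1`: `GL` and `PSL` agree. -/
theorem psl_iff {m : ℕ} (hm : m.Coprime (Fintype.card F - 1)) (hm0 : 0 < m) :
    m ∈ Set.range (orderOf : Matrix.ProjectiveSpecialLinearGroup (Fin n) F → ℕ) ↔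
      ∃ g : GL (Fin n) F, orderOf g = m := by
  classical
  constructor
  · rintro ⟨x, rfl⟩
    obtain ⟨A, rfl⟩ := QuotientGroup.mk_surjective x
    refine CfsgLib.Spectrum.exists_orderOf_eq_of_dvd (orderOf_pos (Matrix.SpecialLinearGroup.toGL A)) ?_
    rw [orderOf_injective _ Matrix.SpecialLinearGroup.toGL_injective]
    exact orderOf_map_dvd (QuotientGroup.mk' _) A
  · rintro ⟨g, hg⟩
    have hdet : Matrix.GeneralLinearGroup.det g = 1 := by
      rw [← orderOf_eq_one_iff]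
      refine Nat.eq_one_of_dvd_coprimes hm (hg ▸ orderOf_map_dvd _ g) ?_
      have h := orderOf_dvd_card (x := Matrix.GeneralLinearGroup.det g)
      rwa [Fintype.card_units] at h
    let A : Matrix.SpecialLinearGroup (Fin n) F := ⟨g, congrArg Units.val hdet⟩
    have hA : orderOf A = m := by
      rw [← orderOf_injective _ Matrix.SpecialLinearGroup.toGL_injective, ← hg]
      congr 1
      exact Units.ext rfl
    refine ⟨QuotientGroup.mk A, Nat.dvd_antisymm ((orderOf_map_dvd (QuotientGroup.mk' _) A).trans hA.dvd) ?_⟩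
    set j := orderOf (QuotientGroup.mk A : Matrix.ProjectiveSpecialLinearGroup (Fin n) F)
    rw [← hA]
    apply orderOf_dvd_of_pow_eq_one
    obtain ⟨c, -, hc⟩ := CfsgLib.SpectrumPSL.center_scalar ((QuotientGroup.eq_one_iff (A ^ j)).mp
      (by rw [QuotientGroup.mk_pow]; exact pow_orderOf_eq_one _))
    rcases Nat.eq_zero_or_pos n with rfl | hn
    · exact Subtype.ext (Subsingleton.elim _ _)
    haveI : Nonempty (Fin n) := ⟨⟨0, hn⟩⟩
    have h1 : ((A ^ j) ^ m : Matrix.SpecialLinearGroup (Fin n) F) = 1 := by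
      rw [← pow_mul, mul_comm, pow_mul, ← hA, pow_orderOf_eq_one, one_pow]
    have h2 : c ^ m = 1 := by
      have h3 := congrArg (fun M : Matrix.SpecialLinearGroup (Fin n) F => (M : Matrix (Fin n) (Fin n) F)) h1
      simp only [Matrix.SpecialLinearGroup.coe_one, Matrix.SpecialLinearGroup.coe_pow] at h3
      rw [← Matrix.SpecialLinearGroup.coe_pow, hc, ← map_pow] at h3
      exact Matrix.scalar_inj.mp (h3.trans (map_one _).symm)
    have hc0 : c ≠ 0 := by rintro rfl; rw [zero_pow hm0.ne'] at h2; exact zero_ne_one h2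
    have hc1 : c = 1 := by
      rw [← orderOf_eq_one_iff]
      exact Nat.eq_one_of_dvd_coprimes hm (orderOf_dvd_of_pow_eq_one h2)
        (orderOf_dvd_of_pow_eq_one (FiniteField.pow_card_sub_one_eq_one c hc0))
    exact Subtype.ext (by rw [hc, hc1, map_one]; rfl)

end CfsgLib.GLPairs
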