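import Mathlib
import Cfsg.Agent.Spectrum.PSL
import Cfsg.Agent.Spectrum.GLPairs
import Cfsg.Agent.Zsigmondy.PrimitivePart

/-!
Elements of order `q ^ (n/2) + 1` in `PSL n`.
-/

set_option autoImplicit false

namespace CfsgLib.HalfSinger

open Polynomial

theorem gcd_dvd_half_iff {m t : ℕ} (hm : 0 < m) (ht : 0 < t) :
    Nat.gcd (2 * m) t ∣ m ↔ padicValNat 2 t < padicValNat 2 (2 * m) := by
  haveI : Fact (Nat.Prime 2) := ⟨Nat.prime_two⟩
  have h2m : padicValNat 2 (2 * m) = padicValNat 2 m + 1 := by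
    rw [padicValNat.mul two_ne_zero hm.ne', padicValNat.self one_lt_two]; omega
  constructor
  · intro h
    by_contra hlt
    have h1 : 2 ^ padicValNat 2 (2 * m) ∣ Nat.gcd (2 * m) t :=
      Nat.dvd_gcd pow_padicValNat_dvd ((pow_dvd_pow 2 (not_lt.1 hlt)).trans pow_padicValNat_dvd)
    have h2 := (padicValNat_dvd_iff_le hm.ne').1 (h1.trans h)
    omega
  · intro hlt
    rw [← Nat.factorization_le_iff_dvd (Nat.gcd_pos_of_pos_right _ ht).ne' hm.ne',
      Nat.factorization_gcd (by omega) ht.ne']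
    intro p
    rw [Finsupp.inf_apply]
    by_cases hp : p.Prime
    · rcases eq_or_ne p 2 with rfl | h2
      · rw [Nat.factorization_def _ hp, Nat.factorization_def _ hp, Nat.factorization_def _ hp]
        exact (inf_le_right).trans (by omega)
      · refine inf_le_left.trans_eq ?_
        rw [Nat.factorization_mul two_ne_zero hm.ne', Finsupp.add_apply,
          Nat.factorization_eq_zero_of_not_dvd (fun h => h2 ((Nat.prime_dvd_prime_iff_eq hp Nat.prime_two).1 h)),
          zero_add]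
    · simp [Nat.factorization_eq_zero_of_not_prime _ hp]

theorem dvd_singerExp_iff {q m : ℕ} (hq : 2 ≤ q) (hm : 0 < m) :
    q ^ m + 1 ∣ SpectrumPSL.singerExp q (2 * m) ↔ padicValNat 2 (q - 1) < padicValNat 2 (2 * m) := by
  rw [← gcd_dvd_half_iff hm (show 0 < q - 1 by omega)]
  set g := Nat.gcd (2 * m) (q - 1) with hg
  have hg0 : 0 < g := Nat.gcd_pos_of_pos_left _ (by omega)
  have hgeo : SpectrumPSL.geo q (2 * m) = SpectrumPSL.geo q m * (q ^ m + 1) := by
    rw [mul_comm 2 m, ← SpectrumPSL.geo_mul_geo hq m 2]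
    congr 1
    simp [SpectrumPSL.geo, Finset.sum_range_succ, add_comm]
  rw [SpectrumPSL.singerExp, ← hg, Nat.dvd_div_iff_mul_dvd (SpectrumPSL.gcd_dvd_geo (by omega) _),
    hgeo, Nat.mul_dvd_mul_iff_right (Nat.succ_pos _)]
  exact Nat.ModEq.dvd_iff ((SpectrumPSL.geo_modEq (SpectrumPSL.self_modEq_one (by omega)) m).of_dvd
    (Nat.gcd_dvd_right _ _)) dvd_rfl

theorem exists_primitive_prime {q n : ℕ} (hq : 3 ≤ q) (hodd : Odd q) (hn : 4 ≤ n) :
    ∃ r : ℕ, r.Prime ∧ r ∣ q ^ n - 1 ∧ ∀ i, 1 ≤ i → i < n → ¬ r ∣ q ^ i - 1 := by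
  by_cases hx : (q, n) ∈ Zsig.exceptions
  · have hcases : (q, n) = (3, 4) ∨ (q, n) = (3, 6) ∨ (q, n) = (5, 6) := by
      simp only [Zsig.exceptions, List.mem_cons, List.not_mem_nil, or_false, Prod.mk.injEq] at hx
      simp only [Prod.mk.injEq]
      obtain ⟨k, hk⟩ := hodd
      omega
    rcases hcases with h | h | h <;> obtain ⟨rfl, rfl⟩ := Prod.mk.inj h
    · exact ⟨5, by norm_num, by norm_num, fun i h1 h2 => by interval_cases i <;> norm_num⟩
    · exact ⟨7, by norm_num, by norm_num, fun i h1 h2 => by interval_cases i <;> norm_num⟩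
    · exact ⟨7, by norm_num, by norm_num, fun i h1 h2 => by interval_cases i <;> norm_num⟩
  · obtain ⟨m, hm, hc, hb⟩ := Zsig.exists_primitive_part (show 2 ≤ q by omega) (by omega) hx
    obtain ⟨r, hr, hrm⟩ := Nat.exists_prime_and_dvd (show m ≠ 1 by omega)
    exact ⟨r, hr, hrm.trans hm, fun i h1 h2 h3 => hr.not_dvd_one ((Nat.dvd_gcd hrm h3).trans (hc i h1 h2).dvd)⟩

variable {F : Type*} [Field F] [Fintype F]

theorem exists_iff {n : ℕ} (hodd : Odd (Fintype.card F)) (hn : 4 ≤ n) (heven : Even n) :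
    (∃ g : Matrix.ProjectiveSpecialLinearGroup (Fin n) F, orderOf g = Fintype.card F ^ (n / 2) + 1) ↔
      padicValNat 2 (Fintype.card F - 1) < padicValNat 2 n := by
  classical
  obtain ⟨m, rfl⟩ : ∃ m, n = 2 * m := ⟨n / 2, by obtain ⟨k, hk⟩ := heven; omega⟩
  set q := Fintype.card F with hq
  have hq3 : 3 ≤ q := by
    obtain ⟨k, hk⟩ := hodd
    have : 1 < q := Fintype.one_lt_card
    omega
  rw [Nat.mul_div_cancel_left m two_pos, ← dvd_singerExp_iff (by omega) (by omega)]
  constructor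
  · rintro ⟨g, hg⟩
    obtain ⟨A, rfl⟩ := QuotientGroup.mk_surjective g
    obtain ⟨p, hp⟩ := CharP.exists F
    haveI hp' : Fact p.Prime := ⟨CharP.char_is_prime F p⟩
    obtain ⟨f, -, hqf⟩ := FiniteField.card F p
    have hpq : p ∣ q := by rw [hq, hqf]; exact dvd_pow_self p f.ne_zero
    obtain ⟨r, hr, hrd, hrprim⟩ := exists_primitive_prime hq3 hodd hn
    haveI := Fact.mk hr
    set N := q ^ m + 1 with hN
    have hsplit : q ^ (2 * m) - 1 = (q ^ m - 1) * N := by
      have h1 : 1 ≤ q ^ m := Nat.one_le_pow m q (by omega)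
      rw [hN, mul_comm 2 m, pow_mul, Nat.sub_mul, mul_add, mul_one, one_mul, ← pow_two]
      omega
    have hrN : r ∣ N := ((hr.dvd_mul.1 (hsplit ▸ hrd)).resolve_left (hrprim m (by omega) (by omega)))
    have hrq1 : ¬ r ∣ q - 1 := by
      have := hrprim 1 le_rfl (by omega); rwa [pow_one] at this
    have hpN : ¬ p ∣ N := fun h => by
      have : p ∣ 1 := (Nat.dvd_add_right (dvd_pow hpq (show m ≠ 0 by omega))).1 h
      exact hp'.out.not_dvd_one this
    have hpq1 : ¬ p ∣ q - 1 := fun h => by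
      have h' := Nat.dvd_sub hpq h
      rw [show q - (q - 1) = 1 by omega] at h'
      exact hp'.out.not_dvd_one h'
    obtain ⟨s, hs⟩ : ∃ s, N * (q - 1) = r * s := hrN.mul_right _
    have hcop : (r * s).Coprime p := by
      rw [← hs]
      exact ((hp'.out.coprime_iff_not_dvd.2 hpN).symm).mul_left (hp'.out.coprime_iff_not_dvd.2 hpq1).symm
    have hpow : A ^ (r * s) = 1 := by
      obtain ⟨c, hc, hcA⟩ := SpectrumPSL.center_scalar ((QuotientGroup.eq_one_iff (A ^ N)).mp
        (by rw [QuotientGroup.mk_pow, ← hg, pow_orderOf_eq_one]))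
      have hc0 : c ≠ 0 := by rintro rfl; rw [zero_pow (by omega)] at hc; exact zero_ne_one hc
      refine Subtype.ext ?_
      rw [← hs, pow_mul, Matrix.SpecialLinearGroup.coe_pow, hcA, ← map_pow,
        FiniteField.pow_card_sub_one_eq_one c hc0, map_one]
      rfl
    have hs0 : 0 < s := Nat.pos_of_ne_zero fun h => by
      rw [h, mul_zero, mul_eq_zero] at hs; omega
    have hne : Matrix.SpecialLinearGroup.toGL A ^ s ≠ 1 := by
      intro h
      refine hrq1 ?_
      rw [← map_pow] at h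
      have h1 : A ^ s = 1 := Matrix.SpecialLinearGroup.toGL_injective (h.trans (map_one _).symm)
      have h2 : N ∣ s := hg ▸ orderOf_dvd_of_pow_eq_one (by rw [← QuotientGroup.mk_pow, h1]; rfl)
      have h3 : r * N ∣ N * (q - 1) := hs ▸ mul_dvd_mul_left r h2
      rw [mul_comm r N] at h3
      exact (Nat.mul_dvd_mul_iff_left (Nat.succ_pos _)).1 h3
    obtain ⟨x, hx, -, -, -, -, hdeg⟩ := GLPairs.exists_mem_deg p (g := Matrix.SpecialLinearGroup.toGL A)
      hr hs0 hcop (by rw [← map_pow, hpow, map_one]) hne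
    have hord : orderOf (q : ZMod r) = 2 * m := by
      refine Nat.le_antisymm (Nat.le_of_dvd (by omega)
        ((SylowLarge.dvd_pow_sub_one_iff (by omega) _).1 hrd)) ?_
      by_contra hlt
      have hrq : ¬ r ∣ q := fun h => by
        have h' : r ∣ q ^ (2 * m) := dvd_pow h (by omega)
        have h'' := Nat.dvd_sub h' hrd
        rw [show q ^ (2 * m) - (q ^ (2 * m) - 1) = 1 by
          have := Nat.one_le_pow (2 * m) q (by omega); omega] at h''
        exact hr.not_dvd_one h''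
      exact hrprim _ (SylowLarge.orderOf_cast_pos hrq) (not_le.1 hlt)
        ((SylowLarge.dvd_pow_sub_one_iff (by omega) _).2 dvd_rfl)
    set P := (A : Matrix (Fin (2 * m)) (Fin (2 * m)) F).charpoly with hP
    have hx' : x ∈ GLClass.elemDiv (A : Matrix (Fin (2 * m)) (Fin (2 * m)) F) := hx
    have hxs := GLClass.elemDiv_spec _ hx'
    rw [← hq, hord] at hdeg
    have hle : 2 * m ≤ x.1.natDegree := Nat.le_of_dvd hxs.2.1.natDegree_pos hdeg
    have hPeq : P = x.1 := Polynomial.eq_of_monic_of_dvd_of_natDegree_le hxs.1 (Matrix.charpoly_monic _)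
      (GLClass.dvd_charpoly_of_mem hx') (by rw [Matrix.charpoly_natDegree_eq_dim, Fintype.card_fin]; exact hle)
    have h1 := SpectrumPSL.primary_pow_mk_eq_one (p := p) (K := 2 * m)
      (le_of_lt (Nat.lt_pow_self hp'.out.one_lt)) A (f := P) (Matrix.charpoly_monic _) (hPeq ▸ hxs.2.1)
      (e := 1) (by rw [pow_one, hP])
    have h2 := orderOf_dvd_of_pow_eq_one h1
    rw [hg] at h2
    exact (((hp'.out.coprime_iff_not_dvd.2 hpN).symm).pow_right _).dvd_of_dvd_mul_right h2
  · intro h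
    obtain ⟨b, hb⟩ := SpectrumPSL.exists_orderOf_singerExp (F := F) (n := 2 * m) (by omega)
    exact Spectrum.exists_orderOf_eq_of_dvd (orderOf_pos b) (hb ▸ h)

end CfsgLib.HalfSinger
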