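import Cfsg.Agent.SpecAbsorb.SU
import Cfsg.Agent.Spectrum.PSLHalfSinger

/-!
`PSU_{2m}(q)`, `q` odd: elements of order `q ^ m + (-1) ^ m`.
-/

set_option autoImplicit false
set_option linter.style.haveILetI false
set_option maxHeartbeats 400000

namespace CfsgLib.PSUHalfTorus

open Module Matrix CfsgLib.Forms CfsgLib.SpectrumPSL CfsgLib.SpecAbsorb

/-- The order in question. -/
def halfTor (q m : ℕ) : ℕ := if Even m then q ^ m + 1 else q ^ m - 1

theorem self_sq_modEq (q : ℕ) (hq : 1 ≤ q) : q ^ 2 ≡ 1 [MOD q + 1] := by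
  refine ((Nat.modEq_iff_dvd' (Nat.one_le_pow _ _ hq)).2 ⟨q - 1, ?_⟩).symm
  simpa using Nat.sq_sub_sq q 1

theorem succ_mul_W {q : ℕ} (hq : 2 ≤ q) (j : ℕ) :
    (q + 1) * ((q - 1) * geo (q ^ 2) j) = q ^ (2 * j) - 1 := by
  have h1 : q ^ 2 - 1 = (q + 1) * (q - 1) := by simpa using Nat.sq_sub_sq q 1
  rw [pow_mul, ← geo_mul (q ^ 2) j (by nlinarith), h1]
  ring

theorem succ_dvd_W_add {q : ℕ} (hq : 2 ≤ q) (j : ℕ) :
    q + 1 ∣ (q - 1) * geo (q ^ 2) j + 2 * j := by
  refine (Nat.ModEq.dvd_iff (((geo_modEq (self_sq_modEq q (by omega)) j).mul_left (q - 1)).add_right (2 * j))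
    dvd_rfl).2 ⟨j, ?_⟩
  rw [← add_mul, show q - 1 + 2 = q + 1 by omega]

theorem suTor_two_mul {q m : ℕ} (hq : 2 ≤ q) : suTor q (2 * m) = (q - 1) * geo (q ^ 2) m := by
  rw [suTor, if_neg (Nat.not_odd_iff_even.2 (even_two_mul m)), Nat.mul_div_cancel_left m two_pos, mul_comm (geo _ _)]
  exact Nat.gcd_eq_right ⟨q + 1, by rw [← succ_mul_W hq m, mul_comm]⟩

theorem halfTor_dvd_psuTor_iff {q m : ℕ} (hq : 2 ≤ q) (hm : 0 < m) :
    halfTor q m ∣ psuTor q (2 * m) ↔ padicValNat 2 (q + 1) < padicValNat 2 (2 * m) := by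
  rw [← HalfSinger.gcd_dvd_half_iff hm (show 0 < q + 1 by omega), psuTor, suTor_two_mul hq]
  set g := Nat.gcd (2 * m) (q + 1) with hgdef
  set W := (q - 1) * geo (q ^ 2) m with hWdef
  have hgd : g ∣ q + 1 := Nat.gcd_dvd_right _ _
  have hWg : Nat.gcd W (q + 1) = g := by
    refine Nat.dvd_antisymm (Nat.dvd_gcd ?_ (Nat.gcd_dvd_right _ _)) (Nat.dvd_gcd ?_ hgd)
    · exact (Nat.dvd_add_right (Nat.gcd_dvd_left W (q + 1))).1
        ((Nat.gcd_dvd_right W (q + 1)).trans (succ_dvd_W_add hq m))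
    · exact (Nat.dvd_add_left (Nat.gcd_dvd_left (2 * m) (q + 1))).1 (hgd.trans (succ_dvd_W_add hq m))
  obtain ⟨T, hT, hgT⟩ : ∃ T, W = T * halfTor q m ∧ (g ∣ T ↔ g ∣ m) := by
    have h2 : 1 ≤ q ^ m := Nat.one_le_pow _ _ (by omega)
    have hmm : q ^ (2 * m) - 1 = (q ^ m + 1) * (q ^ m - 1) := by
      rw [mul_comm 2 m, pow_mul]; simpa using Nat.sq_sub_sq (q ^ m) 1
    rcases Nat.even_or_odd' m with ⟨j, hj | hj⟩
    · refine ⟨(q - 1) * geo (q ^ 2) j, Nat.eq_of_mul_eq_mul_left (show 0 < q + 1 by omega) ?_, ?_⟩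
      · rw [hWdef, succ_mul_W hq, halfTor, if_pos ⟨j, by omega⟩, ← mul_assoc, succ_mul_W hq, hmm, ← hj, mul_comm]
      · have := hgd.trans (succ_dvd_W_add hq j)
        rw [← hj] at this
        exact ⟨fun h => (Nat.dvd_add_right h).1 this, fun h => (Nat.dvd_add_left h).1 this⟩
    · refine ⟨q * ((q - 1) * geo (q ^ 2) j) + 1, Nat.eq_of_mul_eq_mul_left (show 0 < q + 1 by omega) ?_, ?_⟩
      · rw [hWdef, succ_mul_W hq, halfTor, if_neg (by rw [hj]; exact Nat.not_even_iff_odd.2 (odd_two_mul_add_one j)),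
          hmm, ← mul_assoc (q + 1)]
        congr 1
        rw [mul_add, mul_left_comm, succ_mul_W hq, mul_one, Nat.mul_sub, ← pow_succ', ← hj, mul_one]
        have : q ≤ q ^ m := Nat.le_self_pow hm.ne' q
        omega
      · have hs : g ∣ q * ((q - 1) * geo (q ^ 2) j) + 1 + q * m := by
          rw [show q * ((q - 1) * geo (q ^ 2) j) + 1 + q * m =
            q * ((q - 1) * geo (q ^ 2) j + 2 * j) + (q + 1) by rw [hj]; ring]
          exact dvd_add ((hgd.trans (succ_dvd_W_add hq j)).mul_left q) hgd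
        have hgq : Nat.Coprime g q := by
          refine (Nat.coprime_self_add_left.2 ?_ : Nat.Coprime (q + 1) q).coprime_dvd_left hgd
          exact Nat.coprime_one_left q
        exact ⟨fun h => hgq.dvd_of_dvd_mul_left ((Nat.dvd_add_right h).1 hs),
          fun h => (Nat.dvd_add_left (h.mul_left q)).1 hs⟩
  have hN : 0 < halfTor q m := by
    have : 2 ≤ q ^ m := hq.trans (Nat.le_self_pow hm.ne' q)
    unfold halfTor
    split_ifs <;> omega
  rw [hWg, Nat.dvd_div_iff_mul_dvd (hWg ▸ Nat.gcd_dvd_left W (q + 1)), hT, Nat.mul_dvd_mul_iff_right hN, hgT]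

/-- A prime that only divides the `(q^2)^d - 1` with `m ∣ d`. -/
theorem exists_prime {q m : ℕ} (hq : 3 ≤ q) (hodd : Odd q) (hm : 2 ≤ m) :
    ∃ r : ℕ, r.Prime ∧ r ∣ halfTor q m ∧ r ≠ 2 ∧ (∀ p, p.Prime → p ∣ q → r ≠ p) ∧
      ∀ d, r ∣ (q ^ 2) ^ d - 1 → m ∣ d := by
  obtain ⟨e, he, hem⟩ : ∃ e, (if Even m then e = 2 * m else e = m) ∧ 3 ≤ e := by
    by_cases h : Even m
    · exact ⟨2 * m, by rw [if_pos h], by omega⟩
    · exact ⟨m, by rw [if_neg h], by rcases h' : m with _|_|_|k <;> simp_all⟩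
  obtain ⟨r, hr, hrd, hprim⟩ : ∃ r : ℕ, r.Prime ∧ r ∣ q ^ e - 1 ∧ ∀ i, 1 ≤ i → i < e → ¬ r ∣ q ^ i - 1 := by
    rcases (show 4 ≤ e ∨ e = 3 by omega) with h | rfl
    · exact HalfSinger.exists_primitive_prime hq hodd h
    · obtain ⟨k, hk, hc, hb⟩ := Zsig.exists_primitive_part (show 2 ≤ q by omega) le_rfl (show (q, 3) ∉ Zsig.exceptions by
        simp [Zsig.exceptions]; obtain ⟨k, hk⟩ := hodd; omega)
      obtain ⟨r, hr, hrk⟩ := Nat.exists_prime_and_dvd (show k ≠ 1 by omega)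
      exact ⟨r, hr, hrk.trans hk, fun i h1 h2 h3 => hr.not_dvd_one ((Nat.dvd_gcd hrk h3).trans (hc i h1 h2).dvd)⟩
  haveI := Fact.mk hr
  have hq1 : 1 ≤ q ^ e := Nat.one_le_pow _ _ (by omega)
  have hrq : ¬ r ∣ q := fun h => by
    have h'' := Nat.dvd_sub (dvd_pow h (show e ≠ 0 by omega)) hrd
    rw [show q ^ e - (q ^ e - 1) = 1 by omega] at h''
    exact hr.not_dvd_one h''
  have hord : orderOf (q : ZMod r) = e := by
    refine Nat.le_antisymm (Nat.le_of_dvd (by omega) ((SylowLarge.dvd_pow_sub_one_iff (by omega) _).1 hrd)) ?_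
    by_contra hlt
    exact hprim _ (SylowLarge.orderOf_cast_pos hrq) (not_le.1 hlt)
      ((SylowLarge.dvd_pow_sub_one_iff (by omega) _).2 dvd_rfl)
  refine ⟨r, hr, ?_, ?_, fun p hp hpq h => hrq (h ▸ hpq), fun d hd => ?_⟩
  · by_cases h : Even m
    · rw [if_pos h] at he
      subst he
      rw [halfTor, if_pos h]
      rw [mul_comm 2 m, pow_mul, show (q ^ m) ^ 2 - 1 = (q ^ m + 1) * (q ^ m - 1) by
        simpa using Nat.sq_sub_sq (q ^ m) 1] at hrd
      exact (hr.dvd_mul.1 hrd).resolve_right (hprim m (by omega) (by omega))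
    · rw [if_neg h] at he
      subst he
      rw [halfTor, if_neg h]; exact hrd
  · rintro rfl
    obtain ⟨k, hk⟩ := hodd
    exact hprim 1 le_rfl (by omega) ⟨k, by rw [pow_one]; omega⟩
  · rw [← pow_mul] at hd
    have h := (SylowLarge.dvd_pow_sub_one_iff (by omega) _).1 hd
    rw [hord] at h
    by_cases hev : Even m
    · rw [if_pos hev] at he
      subst he
      exact Nat.dvd_of_mul_dvd_mul_left two_pos h
    · rw [if_neg hev] at he
      subst he
      exact (Nat.coprime_two_right.2 (Nat.not_even_iff_odd.1 hev)).dvd_of_dvd_mul_left h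

universe u

variable {F : Type u} [Field F] [Finite F] {q : ℕ} (hF : Nat.card F = q ^ 2)

include hF in
/-- The case of one residue field. -/
theorem field_pow {K : Type*} [Field K] [Finite K] [Algebra F K] {d : ℕ} (hKc : Nat.card K = Nat.card F ^ d)
    (τ : K →+* K) (x : K) (hττ : ∀ k, τ (τ k) = k)
    (hτF : ∀ c, τ (algebraMap F K c) = algebraMap F K (frobQ hF c)) (hτx : τ x * x = 1) :
    Odd d ∧ x ^ (q ^ d + 1) = 1 := by
  haveI := Fintype.ofFinite F
  have hcard : Fintype.card F = q ^ 2 := by rw [← Nat.card_eq_fintype_card, hF]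
  have hid : τ ≠ RingHom.id K := fun h => frobQ_ne_id hF (RingHom.ext fun c =>
    (algebraMap F K).injective (by rw [← hτF, h]; rfl))
  obtain ⟨Q, hQ, hQτ⟩ := (involution_eq_pow τ hττ).resolve_left hid
  obtain rfl : Q = q ^ d := by
    rw [hKc, hF, ← pow_mul, mul_comm 2 d, pow_mul] at hQ
    exact Nat.pow_left_injective two_ne_zero hQ
  refine ⟨Nat.not_even_iff_odd.1 fun ⟨e, he⟩ => frobQ_ne_id hF (RingHom.ext fun c => ?_), ?_⟩
  · apply (algebraMap F K).injective
    rw [← hτF, hQτ, ← map_pow, he, ← two_mul, pow_mul, ← hcard, FiniteField.pow_card_pow]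
    rfl
  · rwa [hQτ, ← pow_succ] at hτx

variable {r m : ℕ} (hr : r.Prime) (hr2 : r ≠ 2) (hrp : ∀ p, p.Prime → p ∣ q → r ≠ p)
  (hrN : r ∣ halfTor q m) (hP : ∀ d, r ∣ (q ^ 2) ^ d - 1 → m ∣ d)

include hF hr hr2 hrp hrN hP in
/-- An isometry of order divisible by `r` has a proper idempotent or two exchanged fields of degree `m ∣ d`. -/
theorem step {V : Type u} [AddCommGroup V] [Module F V] [FiniteDimensional F V] [Nontrivial V]
    {Φ : RForm F V} (hσ : Φ.σ = frobQ hF) (hΦ : Φ.Nondeg) {g : Module.End F V}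
    (hg : ∀ u v, Φ.h (g u) (g v) = Φ.h u v) (hrg : r ∣ orderOf g) :
    (∃ e : Module.End F V, e * e = e ∧ e ≠ 0 ∧ e ≠ 1 ∧ Commute g e ∧ IsAdj Φ e e) ∨
    (∃ (K : Type u) (_ : Field K) (_ : Finite K) (_ : Algebra F K) (d L : ℕ) (x : K) (δ : F),
      1 ≤ L ∧ Nat.card K = Nat.card F ^ d ∧ 2 * (d * L) = finrank F V ∧ x ≠ 0 ∧
      algebraMap F K δ = x ^ (geomExp (Nat.card F) d * L) ∧ LinearMap.det g * Φ.σ δ = δ ∧
      (∀ (a : ℕ) (c : F), x ^ a = algebraMap F K c → c * Φ.σ c = 1 →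
        (g ^ a - algebraMap F (Module.End F V) c) ^ L = 0) ∧ m ∣ d) := by
  obtain ⟨p, k, hp, hp', hq⟩ := exists_charP_pow hF
  haveI := Fact.mk hp'
  haveI : CharP (Module.End F V) p :=
    charP_of_injective_algebraMap (FaithfulSMul.algebraMap_injective F _) p
  have hq2 := two_le_q hF
  have hpq : p ∣ q := by
    rw [hq]; exact dvd_pow_self p (by rintro rfl; rw [pow_zero] at hq; omega)
  have key : ∀ a L : ℕ, (g ^ a - algebraMap F (Module.End F V) 1) ^ L = 0 → r ∣ a := by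
    intro a L h
    rw [map_one] at h
    have h1 := pow_eq_zero_of_le (Nat.lt_pow_self hp'.one_lt : L < p ^ L).le h
    rw [sub_pow_char_pow_of_commute p _ (Commute.one_right _), one_pow, sub_eq_zero, ← pow_mul] at h1
    exact (hr.dvd_mul.1 (hrg.trans (orderOf_dvd_of_pow_eq_one h1))).resolve_right
      fun h2 => hrp p hp' hpq ((Nat.prime_dvd_prime_iff_eq hr hp').1 (hr.dvd_of_dvd_pow h2))
  rcases SpecAbsorb.cases hΦ hg with h | ⟨K, _, _, _, d, L, τ, y, hL, hKc, hdL, hττ, hτF, hτy, -, hnil⟩ |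
      ⟨K, iK, fK, aK, d, L, y, δ, hL, hKc, hdL, hy0, hdy, hδ, hnil⟩
  · exact Or.inl h
  · exfalso
    obtain ⟨hd, hy⟩ := field_pow hF hKc τ y hττ (fun c => by rw [hτF, hσ]) hτy
    have h1 : r ∣ q ^ d + 1 := key _ L (hnil _ 1 (by rw [hy, map_one]))
    have hsq : (q ^ 2) ^ d - 1 = (q ^ d + 1) * (q ^ d - 1) := by
      rw [← pow_mul, mul_comm 2 d, pow_mul]; simpa using Nat.sq_sub_sq (q ^ d) 1
    have hmd := hP d (hsq ▸ h1.mul_right _)
    obtain ⟨t, rfl⟩ := hmd
    obtain ⟨hmo, hto⟩ := Nat.odd_mul.1 hd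
    have hsmall : r ∣ q ^ (m * t) - 1 := by
      refine dvd_trans ?_ (Nat.pow_sub_one_dvd_pow_sub_one q (dvd_mul_right m t))
      rwa [halfTor, if_neg (Nat.not_even_iff_odd.2 hmo)] at hrN
    have := Nat.dvd_sub h1 hsmall
    rw [show q ^ (m * t) + 1 - (q ^ (m * t) - 1) = 2 by
      have := Nat.one_le_pow (m * t) q (by omega); omega] at this
    exact hr2 ((Nat.prime_dvd_prime_iff_eq hr Nat.prime_two).1 this)
  · haveI := Fintype.ofFinite K
    refine Or.inr ⟨K, iK, fK, aK, d, L, y, δ, hL, hKc, hdL, hy0, hdy, hδ, hnil, hP d (key _ L (hnil _ 1 ?_ ?_))⟩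
    · rw [map_one, ← hF, ← hKc, Nat.card_eq_fintype_card]
      exact FiniteField.pow_card_sub_one_eq_one y hy0
    · rw [map_one, mul_one]

omit [Finite F] in
/-- An idempotent commuting with `g` splits its order. -/
theorem not_dvd_of_split {V : Type u} [AddCommGroup V] [Module F V] {g e : Module.End F V}
    (hc : Commute g e) (hr : r.Prime)
    (h1 : ∀ g1 : Module.End F (LinearMap.range e), (∀ v, (g1 v : V) = g v) → ¬ r ∣ orderOf g1)
    (h2 : ∀ g1 : Module.End F (LinearMap.range (1 - e)), (∀ v, (g1 v : V) = g v) → ¬ r ∣ orderOf g1) :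
    ¬ r ∣ orderOf g := by
  have inv : ∀ a : Module.End F V, Commute g a → ∀ v ∈ LinearMap.range a, g v ∈ LinearMap.range a := by
    rintro a ha v ⟨w, rfl⟩
    exact ⟨g w, (LinearMap.congr_fun ha.eq w).symm⟩
  have hc' : Commute g (1 - e) := (Commute.one_right g).sub_right hc
  set g1 := g.restrict (inv e hc)
  set g2 := g.restrict (inv (1 - e) hc')
  have coe : ∀ (W : Submodule F V) (hW : ∀ v ∈ W, g v ∈ W) (j : ℕ) (v : W),
      (((g.restrict hW) ^ j) v : V) = (g ^ j) v := by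
    intro W hW j
    induction j with
    | zero => intro v; rfl
    | succ j ih => intro v; rw [pow_succ, pow_succ, Module.End.mul_apply, Module.End.mul_apply, ih]; rfl
  have h : g ^ (orderOf g1 * orderOf g2) = 1 := LinearMap.ext fun v => by
    have e1 := coe _ (inv e hc) (orderOf g1 * orderOf g2) ⟨e v, LinearMap.mem_range_self e v⟩
    have e2 := coe _ (inv (1 - e) hc') (orderOf g1 * orderOf g2) ⟨(1 - e) v, LinearMap.mem_range_self _ v⟩
    rw [show g.restrict (inv e hc) = g1 from rfl, pow_mul, pow_orderOf_eq_one, one_pow, Module.End.one_apply] at e1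
    rw [show g.restrict (inv (1 - e) hc') = g2 from rfl, mul_comm, pow_mul, pow_orderOf_eq_one, one_pow,
      Module.End.one_apply, mul_comm (orderOf g2)] at e2
    rw [Module.End.one_apply]
    conv_lhs => rw [show v = e v + (1 - e) v by simp]
    rw [map_add, ← e1, ← e2]
    simp
  intro hrg
  rcases hr.dvd_mul.1 (hrg.trans (orderOf_dvd_of_pow_eq_one h)) with h' | h'
  · exact h1 g1 (fun v => rfl) h'
  · exact h2 g2 (fun v => rfl) h'

/-- The restriction of a form to a subspace. -/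
def restrForm {V : Type u} [AddCommGroup V] [Module F V] (Φ : RForm F V) (W : Submodule F V) : RForm F W where
  h u v := Φ.h u v
  σ := Φ.σ
  ε := Φ.ε
  σσ := Φ.σσ
  εσε := Φ.εσε
  add_left u v w := Φ.add_left u v w
  smul_left c u v := Φ.smul_left c u v
  swap u v := Φ.swap u v
  trace_valued v := Φ.trace_valued v

omit [Finite F] in
theorem restrForm_range_nondeg {V : Type u} [AddCommGroup V] [Module F V] {Φ : RForm F V} (hΦ : Φ.Nondeg)
    {e : Module.End F V} (he : e * e = e) (hee : IsAdj Φ e e) :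
    (restrForm Φ (LinearMap.range e)).Nondeg := by
  rintro ⟨_, w, rfl⟩ hv
  refine Subtype.ext (hΦ _ fun u => ?_)
  show Φ.h u (e w) = 0
  rw [← LinearMap.congr_fun he w, Module.End.mul_apply, ← hee u (e w)]
  exact hv ⟨e u, u, rfl⟩

omit [Finite F] in
theorem not_dvd_of_adj {V : Type u} [AddCommGroup V] [Module F V] [FiniteDimensional F V] {Φ : RForm F V}
    (hr : r.Prime) (hΦ : Φ.Nondeg) {g e : Module.End F V} (hg : ∀ u v, Φ.h (g u) (g v) = Φ.h u v)
    (he : e * e = e) (he0 : e ≠ 0) (he1 : e ≠ 1) (hc : Commute g e) (hee : IsAdj Φ e e)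
    (ih : ∀ (W : Type u) [AddCommGroup W] [Module F W] [FiniteDimensional F W], finrank F W < finrank F V →
      ∀ (Ψ : RForm F W), Ψ.σ = Φ.σ → Ψ.Nondeg → ∀ g1 : Module.End F W,
        (∀ u v, Ψ.h (g1 u) (g1 v) = Ψ.h u v) → ¬ r ∣ orderOf g1) :
    ¬ r ∣ orderOf g := by
  have hlt : ∀ a : Module.End F V, a * a = a → a ≠ 1 → finrank F (LinearMap.range a) < finrank F V := by
    refine fun a ha ha1 => Submodule.finrank_lt fun h => ha1 (LinearMap.ext fun v => ?_)
    obtain ⟨w, rfl⟩ := LinearMap.range_eq_top.1 h v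
    exact LinearMap.congr_fun ha w
  have he' : (1 - e) * (1 - e) = 1 - e := by rw [mul_sub, sub_mul, sub_mul, he, one_mul, mul_one]; abel
  have hee' : IsAdj Φ (1 - e) (1 - e) := fun u v => by
    simp only [LinearMap.sub_apply, Module.End.one_apply, Φ.sub_left, Φ.sub_right, hee u v]
  refine not_dvd_of_split hc hr (fun g1 h1 => ?_) (fun g1 h1 => ?_)
  · exact ih _ (hlt e he he1) (restrForm Φ _) rfl (restrForm_range_nondeg hΦ he hee) g1 fun u v => by
      show Φ.h (g1 u : V) (g1 v : V) = Φ.h (u : V) (v : V)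
      rw [h1, h1, hg]
  · exact ih _ (hlt (1 - e) he' fun h => he0 (by simpa using h)) (restrForm Φ _) rfl
      (restrForm_range_nondeg hΦ he' hee') g1 fun u v => by
      show Φ.h (g1 u : V) (g1 v : V) = Φ.h (u : V) (v : V)
      rw [h1, h1, hg]

include hF hr hr2 hrp hrN hP in
/-- In dimension less than `2 m` no isometry has order divisible by `r`. -/
theorem not_dvd_small : ∀ (k : ℕ), k < 2 * m → ∀ (V : Type u) [AddCommGroup V] [Module F V]
    [FiniteDimensional F V], finrank F V = k → ∀ (Φ : RForm F V), Φ.σ = frobQ hF → Φ.Nondeg →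
    ∀ g : Module.End F V, (∀ u v, Φ.h (g u) (g v) = Φ.h u v) → ¬ r ∣ orderOf g := by
  intro k
  induction k using Nat.strong_induction_on with
  | _ k ih =>
  intro hk V _ _ _ hV Φ hσ hΦ g hg hrg
  rcases subsingleton_or_nontrivial V with hs | hs
  · rw [show g = 1 from LinearMap.ext fun v => Subsingleton.elim _ _, orderOf_one] at hrg
    exact hr.not_dvd_one hrg
  rcases step hF hr hr2 hrp hrN hP hσ hΦ hg hrg with ⟨e, he, he0, he1, hc, hee⟩ |
      ⟨K, _, _, _, d, L, y, δ, hL, -, hdL, -, -, -, -, hmd⟩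
  · exact not_dvd_of_adj hr hΦ hg he he0 he1 hc hee
      (fun W _ _ _ hW Ψ hΨ => ih _ (hV ▸ hW) (by omega) W rfl Ψ (hΨ.trans hσ)) hrg
  · have hpos : 0 < finrank F V := Module.finrank_pos
    have hd0 : 0 < d := Nat.pos_of_ne_zero fun h => by rw [h] at hdL; omega
    have h1 := Nat.le_of_dvd hd0 hmd
    have h2 := Nat.le_mul_of_pos_right d hL
    omega

include hF in
theorem orderOf_mk_of_iff {n P : ℕ} (hn : 2 ≤ n) {A : Cfsg.SU n F q}
    (hA : ∀ i : ℕ, (∃ c : F, ((A ^ i : Cfsg.SU n F q).1 : Matrix (Fin n) (Fin n) F) = c • 1) ↔ P ∣ i) :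
    orderOf (QuotientGroup.mk A : Cfsg.PSU n F q) = P := by
  refine Nat.dvd_right_iff_eq.1 fun i => ?_
  rw [orderOf_dvd_iff_pow_eq_one, ← QuotientGroup.mk_pow, QuotientGroup.eq_one_iff,
    CfsgLib.Unitary.mem_center_SU_iff hF hn, hA]

include hF hr hr2 hrp hrN hP in
/-- An element of order divisible by `r` lies in a torus of Singer type. -/
theorem orderOf_dvd_psuTor (hm : 2 ≤ m) (A : Cfsg.SU (2 * m) F q)
    (hrA : r ∣ orderOf (QuotientGroup.mk A : Cfsg.PSU (2 * m) F q)) :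
    orderOf (QuotientGroup.mk A : Cfsg.PSU (2 * m) F q) ∣ psuTor q (2 * m) := by
  classical
  haveI := Fintype.ofFinite F
  have hcard : Fintype.card F = q ^ 2 := by rw [← Nat.card_eq_fintype_card, hF]
  have hq2 := two_le_q hF
  let T := (Matrix.toLinAlgEquiv' : Matrix (Fin (2 * m)) (Fin (2 * m)) F ≃ₐ[F] Module.End F (Fin (2 * m) → F))
  set Φ := CfsgLib.Unitary.uForm hF (2 * m)
  set g : Module.End F (Fin (2 * m) → F) := T (A.1 : Matrix (Fin (2 * m)) (Fin (2 * m)) F) with hgdef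
  have hg : ∀ u v, Φ.h (g u) (g v) = Φ.h u v := fun u v => A.2 u v
  have hdetg : LinearMap.det g = 1 :=
    (LinearMap.det_toLin' (A.1 : Matrix (Fin (2 * m)) (Fin (2 * m)) F)).trans A.1.2
  haveI : Nonempty (Fin (2 * m)) := ⟨⟨0, by omega⟩⟩
  have hdim : finrank F (Fin (2 * m) → F) = 2 * m := Module.finrank_fin_fun F
  let φ : Cfsg.SU (2 * m) F q →* Module.End F (Fin (2 * m) → F) :=
    (T : Matrix (Fin (2 * m)) (Fin (2 * m)) F →* Module.End F (Fin (2 * m) → F)).comp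
      ((Cfsg.slToMat (2 * m) F).comp (Cfsg.SU (2 * m) F q).subtype)
  have hφ : Function.Injective φ := fun a b h => Subtype.ext (Subtype.ext (T.injective h))
  have hrg : r ∣ orderOf g := by
    have h := orderOf_injective φ hφ A
    rw [show g = φ A from rfl, h]
    exact hrA.trans (orderOf_map_dvd (QuotientGroup.mk' _) A)
  rcases step hF hr hr2 hrp hrN hP (show Φ.σ = frobQ hF from rfl) (CfsgLib.Unitary.uForm_nondeg hF _) hg hrg with
      ⟨e, he, he0, he1, hc, hee⟩ | ⟨K, _, _, _, d, L, y, δ, hL, hKc, hdL, hy0, hdy, hδ, hnil, hmd⟩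
  · exact absurd hrg (not_dvd_of_adj hr (CfsgLib.Unitary.uForm_nondeg hF _) hg he he0 he1 hc hee
      fun W _ _ _ hW Ψ hΨ => not_dvd_small hF hr hr2 hrp hrN hP _ (hdim ▸ hW) W rfl Ψ hΨ)
  rw [hdim] at hdL
  have hdm : d * L = m := by omega
  have hd0 : 0 < d := Nat.pos_of_ne_zero fun h => by rw [h] at hdm; omega
  obtain rfl : d = m := Nat.le_antisymm (hdm ▸ Nat.le_mul_of_pos_right d hL) (Nat.le_of_dvd hd0 hmd)
  obtain rfl : L = 1 := Nat.eq_of_mul_eq_mul_left hd0 (hdm.trans (mul_one d).symm)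
  haveI := Fintype.ofFinite K
  rw [hF] at hdy
  rw [hdetg, one_mul] at hδ
  have hδ0 : δ ≠ 0 := fun h => pow_ne_zero _ hy0 (by rw [← hdy, h, map_zero])
  have hδq : δ ^ (q - 1) = 1 := mul_right_cancel₀ hδ0 (by
    rw [one_mul, ← pow_succ, Nat.sub_add_cancel (by omega)]; exact hδ)
  have hy1 : y ^ ((q ^ 2) ^ d - 1) = 1 := by
    rw [← hF, ← hKc, Nat.card_eq_fintype_card]
    exact FiniteField.pow_card_sub_one_eq_one y hy0
  have hy : orderOf y ∣ suTor q (2 * d) := dvd_suTor_pair hF (by rw [mul_one]) hy1 (by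
    rw [pow_mul, show geo (q ^ 2) d = geomExp (q ^ 2) d from rfl, ← hdy, ← map_pow, hδq, map_one])
  have h : (y ^ psuTor q (2 * d)) ^ (q + 1) = 1 := by
    rw [← pow_mul]; exact orderOf_dvd_iff_pow_eq_one.1 (hy.trans (suTor_dvd q _))
  obtain ⟨c, hc⟩ := mem_base_of_pow_card (F := F) (x := y ^ psuTor q (2 * d)) (by
    rw [hcard, show q ^ 2 = (q + 1) * (q - 1) + 1 by
      have := Nat.sq_sub_sq q 1; rw [one_pow] at this; rw [← this]; have := Nat.one_le_pow 2 q (by omega); omega,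
      pow_succ, pow_mul, h, one_pow, one_mul])
  have hc1 : c * Φ.σ c = 1 := by
    rw [show Φ.σ c = c ^ q from rfl, ← pow_succ']
    exact (algebraMap F K).injective (by rw [map_pow, hc, h, map_one])
  have h1 := hnil _ c hc.symm hc1
  rw [pow_one, sub_eq_zero] at h1
  refine orderOf_dvd_of_pow_eq_one ?_
  rw [← QuotientGroup.mk_pow, QuotientGroup.eq_one_iff, CfsgLib.Unitary.mem_center_SU_iff hF (by omega)]
  refine ⟨c, T.injective ?_⟩
  rw [SubmonoidClass.coe_pow, Matrix.SpecialLinearGroup.coe_pow, map_pow, ← hgdef, h1, map_smul, map_one,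
    Algebra.algebraMap_eq_smul_one]

include hF in
theorem exists_iff {m : ℕ} (hodd : Odd q) (hm : 2 ≤ m) :
    (∃ g : Cfsg.PSU (2 * m) F q, orderOf g = halfTor q m) ↔
      padicValNat 2 (q + 1) < padicValNat 2 (2 * m) := by
  have hq2 := two_le_q hF
  have hq3 : 3 ≤ q := by obtain ⟨k, hk⟩ := hodd; omega
  rw [← halfTor_dvd_psuTor_iff hq2 (by omega)]
  constructor
  · rintro ⟨g, hg⟩
    obtain ⟨r, hr, hrN, hr2, hrp, hP⟩ := exists_prime hq3 hodd hm
    obtain ⟨A, rfl⟩ := QuotientGroup.mk_surjective g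
    rw [← hg]
    exact orderOf_dvd_psuTor hF hr hr2 hrp hrN hP hm A (by rw [hg]; exact hrN)
  · intro h
    obtain ⟨A, hA⟩ := exists_su_singer hF (n := 2 * m) (by omega)
    have hA' := orderOf_mk_of_iff hF (by omega) hA
    refine Spectrum.exists_orderOf_eq_of_dvd (g := (QuotientGroup.mk A : Cfsg.PSU (2 * m) F q)) ?_ (hA'.symm ▸ h)
    haveI : Finite (Cfsg.PSU (2 * m) F q) := inferInstance
    exact orderOf_pos _

end CfsgLib.PSUHalfTorus
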