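import Mathlib
import Cfsg.Agent.Spectrum.GLPairs

/-!
Elements of order `r * p` in `PSL n` for primes `r ∣ q - 1`, with the exceptional case `PSL 3`.
-/

set_option autoImplicit false

namespace CfsgLib.GLPairs

open Polynomial

variable {F : Type*} [Field F] [Fintype F] {n : ℕ} (p : ℕ) [Fact p.Prime] [CharP F p]

/-- A diagonal element times a transvection. -/
theorem exists_rp_of_diag {r : ℕ} (hr : r.Prime) (hrp : r ≠ p) (d : Fin n → F) {i j : Fin n} (hij : i ≠ j)
    (hd : d i = d j) (hprod : ∏ k, d k = 1) (hsc : ∀ k, d k ^ r = d i ^ r) (hns : ∃ k, d k ≠ d i) :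
    r * p ∈ Set.range (orderOf : Matrix.ProjectiveSpecialLinearGroup (Fin n) F → ℕ) := by
  classical
  have hp : p.Prime := Fact.out
  haveI : Fact r.Prime := ⟨hr⟩
  let A : Matrix.SpecialLinearGroup (Fin n) F := ⟨Matrix.diagonal d, by rw [Matrix.det_diagonal, hprod]⟩
  let B : Matrix.SpecialLinearGroup (Fin n) F :=
    ⟨Matrix.transvection i j 1, Matrix.det_transvection_of_ne i j hij 1⟩
  have hBpow : ∀ k : ℕ, ((B ^ k : Matrix.SpecialLinearGroup (Fin n) F) : Matrix (Fin n) (Fin n) F) =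
      Matrix.transvection i j (k : F) := by
    intro k
    induction k with
    | zero => simp
    | succ k ih =>
      rw [pow_succ, Matrix.SpecialLinearGroup.coe_mul, ih, Nat.cast_succ]
      exact Matrix.transvection_mul_transvection_same i j hij _ _
  have hA : orderOf (QuotientGroup.mk A : Matrix.ProjectiveSpecialLinearGroup (Fin n) F) = r := by
    rw [orderOf_eq_prime_iff]
    refine ⟨?_, fun h => ?_⟩
    · rw [← QuotientGroup.mk_pow, SpectrumPSL.mk_eq_one_iff]
      refine ⟨d i ^ r, ?_⟩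
      rw [Matrix.SpecialLinearGroup.coe_pow, show (A : Matrix (Fin n) (Fin n) F) = Matrix.diagonal d from rfl,
        Matrix.diagonal_pow, Matrix.scalar_apply]
      exact congrArg _ (funext fun k => hsc k)
    · obtain ⟨c, hc⟩ := SpectrumPSL.mk_eq_one_iff.1 h
      obtain ⟨k, hk⟩ := hns
      rw [show (A : Matrix (Fin n) (Fin n) F) = Matrix.diagonal d from rfl, Matrix.scalar_apply] at hc
      have := Matrix.diagonal_injective hc
      exact hk (by rw [congrFun this k, congrFun this i])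
  have hB : orderOf (QuotientGroup.mk B : Matrix.ProjectiveSpecialLinearGroup (Fin n) F) = p := by
    rw [orderOf_eq_prime_iff]
    refine ⟨?_, fun h => ?_⟩
    · have hBp : B ^ p = 1 := Subtype.ext (by
        rw [hBpow, CharP.cast_eq_zero, Matrix.transvection_zero]
        rfl)
      rw [← QuotientGroup.mk_pow, hBp]
      rfl
    · obtain ⟨c, hc⟩ := SpectrumPSL.mk_eq_one_iff.1 h
      have := congrFun (congrFun hc i) j
      simp [B, Matrix.transvection, hij] at this
  have hcomm : Commute A B := Subtype.ext (by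
    show Matrix.diagonal d * Matrix.transvection i j 1 = Matrix.transvection i j 1 * Matrix.diagonal d
    ext a b
    rw [Matrix.diagonal_mul, Matrix.mul_diagonal]
    by_cases hab : a = i ∧ b = j
    · obtain ⟨rfl, rfl⟩ := hab
      simp [Matrix.transvection, hij, hd]
    · by_cases hab' : a = b
      · subst hab'; ring
      · have : Matrix.transvection i j (1 : F) a b = 0 := by
          rw [Matrix.transvection, Matrix.add_apply, Matrix.one_apply_ne hab', Matrix.single_apply,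
            if_neg (fun h => hab ⟨h.1.symm, h.2.symm⟩), add_zero]
        rw [this, mul_zero, zero_mul])
  refine ⟨QuotientGroup.mk' _ A * QuotientGroup.mk' _ B, ?_⟩
  rw [(hcomm.map (QuotientGroup.mk' _)).orderOf_mul_eq_mul_orderOf_of_coprime]
  · show orderOf (QuotientGroup.mk A : Matrix.ProjectiveSpecialLinearGroup (Fin n) F) *
      orderOf (QuotientGroup.mk B : Matrix.ProjectiveSpecialLinearGroup (Fin n) F) = r * p
    rw [hA, hB]
  · show (orderOf (QuotientGroup.mk A : Matrix.ProjectiveSpecialLinearGroup (Fin n) F)).Coprime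
      (orderOf (QuotientGroup.mk B : Matrix.ProjectiveSpecialLinearGroup (Fin n) F))
    rw [hA, hB]
    exact (Nat.coprime_primes hr hp).2 hrp

/-- The case `n ≥ 4`, or `n = 3` with `r ≠ 3` or `9 ∣ q - 1`. -/
theorem exists_rp_of_dvd {r : ℕ} (hr : r.Prime) (hrp : r ≠ p) (hrq : r ∣ Fintype.card F - 1) (hn : 3 ≤ n)
    (hexc : ¬ (n = 3 ∧ r = 3 ∧ ¬ 9 ∣ Fintype.card F - 1)) :
    r * p ∈ Set.range (orderOf : Matrix.ProjectiveSpecialLinearGroup (Fin n) F → ℕ) := by
  classical
  obtain ⟨u, hu⟩ := IsCyclic.exists_ofOrder_eq_natCard (α := Fˣ)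
  rw [Nat.card_units, Nat.card_eq_fintype_card] at hu
  have hget : ∀ m, m ∣ Fintype.card F - 1 → ∃ a : F, orderOf a = m := by
    intro m hm
    obtain ⟨a, ha⟩ := CfsgLib.Spectrum.exists_orderOf_eq_of_dvd (orderOf_pos u) (hu ▸ hm)
    exact ⟨(a : F), orderOf_units.trans ha⟩
  obtain ⟨a, ha⟩ := hget r hrq
  have ha0 : a ≠ 0 := by
    rintro rfl
    have := hr.pos
    rw [← ha, orderOf_zero] at this
    exact lt_irrefl _ this
  have har : a ^ r = 1 := by rw [← ha, pow_orderOf_eq_one]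
  have ha1 : a ≠ 1 := by rintro rfl; rw [orderOf_one] at ha; exact hr.one_lt.ne ha
  rcases Nat.lt_or_ge n 4 with h4 | h4
  · obtain rfl : n = 3 := by omega
    obtain ⟨b, hb, hb3⟩ : ∃ b : F, (∀ e : ℕ, b ^ e = 1 → r ∣ e) ∧ b ^ (r * 3) = 1 ∧ b ^ 3 ≠ 1 := by
      by_cases h3 : r = 3
      · subst h3
        have h9 : 9 ∣ Fintype.card F - 1 := by
          by_contra h
          exact hexc ⟨rfl, rfl, h⟩
        obtain ⟨b, hb⟩ := hget 9 h9
        exact ⟨b, fun e he => (show 3 ∣ 9 by norm_num).trans (hb ▸ orderOf_dvd_of_pow_eq_one he),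
          by rw [show 3 * 3 = orderOf b by rw [hb], pow_orderOf_eq_one],
          fun h => absurd (hb ▸ orderOf_dvd_of_pow_eq_one h) (by norm_num)⟩
      · exact ⟨a, fun e he => ha ▸ orderOf_dvd_of_pow_eq_one he, by rw [pow_mul, har, one_pow],
          fun h => h3 ((Nat.prime_dvd_prime_iff_eq hr Nat.prime_three).1 (ha ▸ orderOf_dvd_of_pow_eq_one h))⟩
    have hb0 : b ≠ 0 := fun h => hb3.2 (by
      have := hb3.1
      rw [h, zero_pow (Nat.mul_ne_zero hr.ne_zero (by omega))] at this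
      exact absurd this zero_ne_one)
    refine exists_rp_of_diag p hr hrp ![b, b, (b ^ 2)⁻¹] (i := 0) (j := 1) (by decide) rfl ?_ ?_ ⟨2, ?_⟩
    · simp [Fin.prod_univ_three]
      field_simp
    · intro k
      fin_cases k
      · rfl
      · rfl
      · show ((b ^ 2)⁻¹) ^ r = b ^ r
        rw [inv_pow]
        refine (inv_eq_of_mul_eq_one_right ?_)
        rw [← pow_mul, ← pow_add, show 2 * r + r = r * 3 by ring]
        exact hb3.1
    · show (b ^ 2)⁻¹ ≠ b
      intro h
      refine hb3.2 ?_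
      calc b ^ 3 = b ^ 2 * b := by ring
        _ = b ^ 2 * (b ^ 2)⁻¹ := by rw [h]
        _ = 1 := mul_inv_cancel₀ (pow_ne_zero 2 hb0)
  · let i0 : Fin n := ⟨0, by omega⟩
    let i1 : Fin n := ⟨1, by omega⟩
    let i2 : Fin n := ⟨2, by omega⟩
    let i3 : Fin n := ⟨3, by omega⟩
    let d : Fin n → F := fun k => if k = i2 then a else if k = i3 then a⁻¹ else 1
    have hne : i2 ≠ i3 := by simp [i2, i3, Fin.ext_iff]
    refine exists_rp_of_diag p hr hrp d (i := i0) (j := i1) (by simp [i0, i1, Fin.ext_iff]) ?_ ?_ ?_ ⟨i2, ?_⟩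
    · simp [d, i0, i1, i2, i3, Fin.ext_iff]
    · rw [← Finset.mul_prod_erase Finset.univ d (Finset.mem_univ i2),
        ← Finset.mul_prod_erase (Finset.univ.erase i2) d (Finset.mem_erase.2 ⟨hne.symm, Finset.mem_univ i3⟩),
        Finset.prod_eq_one fun k hk => ?_]
      · simp [d, hne.symm, ha0]
      · simp only [Finset.mem_erase] at hk
        simp [d, hk.1, hk.2.1]
    · intro k
      simp only [d]
      have h0 : i0 ≠ i2 ∧ i0 ≠ i3 := by simp [i0, i2, i3, Fin.ext_iff]
      rw [if_neg h0.1, if_neg h0.2, one_pow]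
      split_ifs
      · exact har
      · rw [inv_pow, har, inv_one]
      · exact one_pow r
    · simp [d, i0, i2, i3, Fin.ext_iff, ha1]

/-- The exceptional case: `PSL 3` has no element of order `3 p` when `3 ∥ q - 1`. -/
theorem not_three_p (h3 : 3 ∣ Fintype.card F - 1) (h9 : ¬ 9 ∣ Fintype.card F - 1) (hp3 : p ≠ 3) :
    3 * p ∉ Set.range (orderOf : Matrix.ProjectiveSpecialLinearGroup (Fin 3) F → ℕ) := by
  classical
  have hp : p.Prime := Fact.out
  rintro ⟨x, hx⟩
  obtain ⟨A₀, rfl⟩ := QuotientGroup.mk_surjective x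
  obtain ⟨c, hc⟩ := SpectrumPSL.mk_eq_one_iff.1 (show (QuotientGroup.mk (A₀ ^ (3 * p)) :
    Matrix.ProjectiveSpecialLinearGroup (Fin 3) F) = 1 by rw [QuotientGroup.mk_pow, ← hx, pow_orderOf_eq_one])
  set A := (A₀ : Matrix (Fin 3) (Fin 3) F) with hA
  rw [Matrix.SpecialLinearGroup.coe_pow, ← hA] at hc
  obtain ⟨c', rfl⟩ : ∃ c' : F, c' ^ p = c :=
    (Finite.injective_iff_surjective.1 (frobenius_inj F p)) c
  have hker : aeval A (((X : F[X]) ^ 3 - C c') ^ p) = 0 := by
    rw [sub_pow_char, ← pow_mul, ← C_pow, map_sub, map_pow, aeval_X, aeval_C, hc, sub_eq_zero]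
    rfl
  have hdiv : ∀ z ∈ GLClass.elemDiv A, z.1 ∣ (X : F[X]) ^ 3 - C c' := fun z hz =>
    (GLClass.elemDiv_spec _ hz).2.1.prime.dvd_of_dvd_pow
      ((dvd_pow_self _ (GLClass.elemDiv_spec _ hz).2.2.ne').trans (GLClass.pow_dvd_of_aeval hker hz))
  have hnot : ¬ ∀ z ∈ GLClass.elemDiv A, z.2 = 1 := by
    intro hall
    have h := aeval_eq_zero_of_elemDiv (A := A) (f := (X : F[X]) ^ 3 - C c') fun z hz => by
      rw [hall z hz, pow_one]; exact hdiv z hz
    rw [map_sub, map_pow, aeval_X, aeval_C, sub_eq_zero] at h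
    have h1 : (QuotientGroup.mk A₀ : Matrix.ProjectiveSpecialLinearGroup (Fin 3) F) ^ 3 = 1 := by
      rw [← QuotientGroup.mk_pow, SpectrumPSL.mk_eq_one_iff]
      exact ⟨c', by rw [Matrix.SpecialLinearGroup.coe_pow, ← hA, h]; rfl⟩
    have h2 := Nat.le_of_dvd (by norm_num) (orderOf_dvd_of_pow_eq_one h1)
    rw [hx] at h2
    nlinarith [hp.two_le]
  push_neg at hnot
  obtain ⟨y, hy, hy1⟩ := hnot
  have hys := GLClass.elemDiv_spec _ hy
  have hydeg : y.1.natDegree = 1 ∧ 2 ≤ y.2 := by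
    have h2 : 2 ≤ y.2 := by have := hys.2.2; omega
    have h3' := deg_le hy
    have h4 := hys.2.1.natDegree_pos
    exact ⟨by nlinarith, h2⟩
  obtain ⟨a, hay⟩ : ∃ a, y.1 = X - C a := ⟨-(y.1.coeff 0), by
    conv_lhs => rw [hys.1.eq_X_add_C hydeg.1]
    rw [map_neg, sub_neg_eq_add]⟩
  have hac : a ^ 3 = c' := by
    have := hdiv y hy
    rw [hay, dvd_iff_isRoot] at this
    simpa [sub_eq_zero] using this
  by_cases hall : ∀ z ∈ GLClass.elemDiv A, z.1 = X - C a
  · have h := aeval_eq_zero_of_elemDiv (A := A) (f := (X - C a) ^ (p ^ 3)) fun z hz => by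
      rw [hall z hz]
      exact pow_dvd_pow _ ((GLClass.exp_le A hz).trans (Nat.le_of_lt (Nat.lt_pow_self hp.one_lt)))
    rw [sub_pow_char_pow, map_sub, map_pow, aeval_X, ← C_pow, aeval_C, sub_eq_zero] at h
    have h1 : (QuotientGroup.mk A₀ : Matrix.ProjectiveSpecialLinearGroup (Fin 3) F) ^ (p ^ 3) = 1 := by
      rw [← QuotientGroup.mk_pow, SpectrumPSL.mk_eq_one_iff]
      exact ⟨a ^ p ^ 3, by rw [Matrix.SpecialLinearGroup.coe_pow, ← hA, h]; rfl⟩
    have h2 := (dvd_mul_right 3 p).trans (hx ▸ orderOf_dvd_of_pow_eq_one h1)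
    exact hp3.symm ((Nat.prime_dvd_prime_iff_eq Nat.prime_three hp).1 (Nat.prime_three.dvd_of_dvd_pow h2))
  push_neg at hall
  obtain ⟨z, hz, hza⟩ := hall
  have hzs := GLClass.elemDiv_spec _ hz
  have hyz : y ≠ z := fun h => hza (h ▸ hay)
  have hsum := deg_add_le hy hz hyz
  rw [hydeg.1, Nat.mul_one] at hsum
  have hzdeg : z.1.natDegree = 1 := by
    have := hzs.2.1.natDegree_pos
    have := Nat.le_mul_of_pos_left z.1.natDegree hzs.2.2
    omega
  obtain ⟨b, hbz⟩ : ∃ b, z.1 = X - C b := ⟨-(z.1.coeff 0), by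
    conv_lhs => rw [hzs.1.eq_X_add_C hzdeg]
    rw [map_neg, sub_neg_eq_add]⟩
  have hbc : b ^ 3 = c' := by
    have := hdiv z hz
    rw [hbz, dvd_iff_isRoot] at this
    simpa [sub_eq_zero] using this
  have hab : a ≠ b := fun h => hza (by rw [hbz, h])
  have hch : A.charpoly = (X - C a) ^ 2 * (X - C b) := by
    have h1 : (X - C a) ^ 2 ∣ A.charpoly := by
      rw [← hay]
      exact (pow_dvd_pow _ hydeg.2).trans (GLClass.pow_dvd_of_aeval (Matrix.aeval_self_charpoly A) hy)
    have h2 : X - C b ∣ A.charpoly := hbz ▸ GLClass.dvd_charpoly_of_mem hz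
    have h3' := ((isCoprime_X_sub_C_of_isUnit_sub (sub_ne_zero.2 hab).isUnit).pow_left).mul_dvd h1 h2
    refine eq_of_monic_of_dvd_of_natDegree_le (((monic_X_sub_C a).pow 2).mul (monic_X_sub_C b))
      (Matrix.charpoly_monic A) h3' ?_
    rw [Matrix.charpoly_natDegree_eq_dim, ((monic_X_sub_C a).pow 2).natDegree_mul (monic_X_sub_C b),
      natDegree_pow, natDegree_X_sub_C, natDegree_X_sub_C]
    simp
  have hdet : A.det = 1 := A₀.2
  rw [Matrix.det_eq_sign_charpoly_coeff, hch, coeff_zero_eq_eval_zero] at hdet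
  simp at hdet
  have hab2 : a ^ 2 * b = 1 := by linear_combination hdet
  have ha9 : a ^ 9 = 1 := by
    calc a ^ 9 = (a ^ 2) ^ 3 * a ^ 3 := by ring
      _ = (a ^ 2) ^ 3 * b ^ 3 := by rw [hac, hbc]
      _ = 1 := by rw [← mul_pow, hab2, one_pow]
  have ha0 : a ≠ 0 := by rintro rfl; simp at ha9
  have ha3 : a ^ 3 = 1 := by
    have hd : orderOf a ∣ Nat.gcd 9 (Fintype.card F - 1) :=
      Nat.dvd_gcd (orderOf_dvd_of_pow_eq_one ha9)
        (orderOf_dvd_of_pow_eq_one (FiniteField.pow_card_sub_one_eq_one a ha0))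
    have hg : Nat.gcd 9 (Fintype.card F - 1) = 3 := by
      have h1 : Nat.gcd 9 (Fintype.card F - 1) ∈ Nat.divisors 9 :=
        Nat.mem_divisors.2 ⟨Nat.gcd_dvd_left _ _, by norm_num⟩
      have h2 : 3 ∣ Nat.gcd 9 (Fintype.card F - 1) := Nat.dvd_gcd (by norm_num) h3
      have h3'' : Nat.gcd 9 (Fintype.card F - 1) ∣ Fintype.card F - 1 := Nat.gcd_dvd_right _ _
      rw [show Nat.divisors 9 = {1, 3, 9} from rfl] at h1
      simp only [Finset.mem_insert, Finset.mem_singleton] at h1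
      rcases h1 with h1 | h1 | h1
      · rw [h1] at h2; norm_num at h2
      · exact h1
      · rw [h1] at h3''; exact absurd h3'' h9
    rw [hg] at hd
    exact orderOf_dvd_iff_pow_eq_one.1 hd
  refine hab ?_
  calc a = a * (a ^ 2 * b) := by rw [hab2, mul_one]
    _ = a ^ 3 * b := by ring
    _ = b := by rw [ha3, one_mul]

end CfsgLib.GLPairs
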