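import Mathlib
import Cfsg.Agent.Spectrum.PSL
import Cfsg.Agent.Spectrum.MatrixOrder

/-!
Element orders of `PSL 3` over a finite field.
-/

set_option autoImplicit false

namespace CfsgLib.SpectrumThree

open Polynomial Matrix

variable {F : Type*} [Field F] [Fintype F] (p : ℕ) [Fact p.Prime] [CharP F p]

local notation "qq" => Fintype.card F

omit [Fintype F] [Fact p.Prime] [CharP F p] p in
theorem pow_eq_scalar_of_dvd {A : Matrix.SpecialLinearGroup (Fin 3) F} {N : ℕ} {c : F}
    (h : (A : Matrix (Fin 3) (Fin 3) F).charpoly ∣ (X : F[X]) ^ N - C c) :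
    (QuotientGroup.mk A : Matrix.ProjectiveSpecialLinearGroup (Fin 3) F) ^ N = 1 := by
  obtain ⟨s, hs⟩ := h
  have h := congrArg (aeval (A : Matrix (Fin 3) (Fin 3) F)) hs
  rw [map_mul, aeval_self_charpoly, zero_mul, map_sub, map_pow, aeval_X, aeval_C, sub_eq_zero] at h
  rw [← QuotientGroup.mk_pow, QuotientGroup.eq_one_iff]
  refine Matrix.SpecialLinearGroup.mem_center_iff.mpr ⟨c, ?_, by rw [Matrix.SpecialLinearGroup.coe_pow, h]; rfl⟩
  have h2 := congrArg Matrix.det h
  rw [det_pow, A.2, one_pow, Algebra.algebraMap_eq_smul_one, det_smul, det_one, mul_one] at h2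
  exact h2.symm

omit [Fact p.Prime] [CharP F p] p in
theorem gcd_cases : Nat.gcd 3 (qq - 1) = 1 ∨ Nat.gcd 3 (qq - 1) = 3 :=
  (Nat.dvd_prime Nat.prime_three).1 (Nat.gcd_dvd_left _ _)

omit [Fact p.Prime] [CharP F p] p in
theorem mul_three {M : ℕ} (hM : qq - 1 ∣ M) : qq - 1 ∣ M / Nat.gcd 3 (qq - 1) * 3 := by
  rcases gcd_cases (F := F) with h | h <;> rw [h]
  · rw [Nat.div_one]; exact hM.mul_right 3
  · have h3 : 3 ∣ qq - 1 := h ▸ Nat.gcd_dvd_right _ _
    rw [Nat.div_mul_cancel (h3.trans hM)]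
    exact hM

theorem quadratic_case {A : Matrix.SpecialLinearGroup (Fin 3) F} {a : F} {g : F[X]} (hgm : g.Monic)
    (hg : Irreducible g) (hdeg : g.natDegree = 2)
    (hP : (A : Matrix (Fin 3) (Fin 3) F).charpoly = (X - C a) * g) :
    orderOf (QuotientGroup.mk A : Matrix.ProjectiveSpecialLinearGroup (Fin 3) F) ∣
      (qq ^ 2 - 1) / Nat.gcd 3 (qq - 1) := by
  classical
  have hq : 2 ≤ qq := Fintype.one_lt_card
  apply orderOf_dvd_of_pow_eq_one
  set N := (qq ^ 2 - 1) / Nat.gcd 3 (qq - 1) with hN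
  refine pow_eq_scalar_of_dvd (c := a ^ N) ?_
  have hcop : IsCoprime (X - C a) g := by
    refine (irreducible_X_sub_C a).coprime_iff_not_dvd.2 fun h => ?_
    have h1 := Polynomial.eq_of_monic_of_associated (monic_X_sub_C a) hgm ((irreducible_X_sub_C a).associated_of_dvd hg h)
    rw [← h1, natDegree_X_sub_C] at hdeg
    omega
  rw [hP]
  refine hcop.mul_dvd (by rw [dvd_iff_isRoot]; simp) ?_
  haveI := Fact.mk hg
  haveI : Module.Finite F (AdjoinRoot g) := (AdjoinRoot.powerBasis hg.ne_zero).finite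
  haveI : Finite (AdjoinRoot g) := Module.finite_of_finite F
  letI := Fintype.ofFinite (AdjoinRoot g)
  have hrank : Module.finrank F (AdjoinRoot g) = 2 := by
    rw [(AdjoinRoot.powerBasis hg.ne_zero).finrank, AdjoinRoot.powerBasis_dim, hdeg]
  set lam : AdjoinRoot g := AdjoinRoot.root g with hlam
  have hnorm : algebraMap F (AdjoinRoot g) (g.coeff 0) = lam ^ (1 + qq) := by
    have h1 : Algebra.norm F lam = (-1) ^ g.natDegree * g.coeff 0 := by
      have := Algebra.PowerBasis.norm_gen_eq_coeff_zero_minpoly (AdjoinRoot.powerBasis hg.ne_zero)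
      rwa [AdjoinRoot.powerBasis_dim, AdjoinRoot.powerBasis_gen,
        AdjoinRoot.minpoly_root hg.ne_zero, hgm.leadingCoeff, inv_one, map_one, mul_one] at this
    rw [hdeg, neg_one_sq, one_mul] at h1
    rw [← h1, FiniteField.algebraMap_norm_eq_pow_sum, hrank, Nat.card_eq_fintype_card,
      Finset.sum_range_succ, Finset.sum_range_one, pow_zero, pow_one]
  have hab : a * g.coeff 0 = 1 := by
    have h2 := det_eq_sign_charpoly_coeff (A : Matrix (Fin 3) (Fin 3) F)
    rw [A.2, hP, mul_coeff_zero, coeff_sub, coeff_X_zero, coeff_C_zero, Fintype.card_fin] at h2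
    linear_combination -h2
  have h1 : algebraMap F (AdjoinRoot g) a * lam ^ (1 + qq) = 1 := by rw [← hnorm, ← map_mul, hab, map_one]
  have hlam0 : lam ≠ 0 := by
    intro h0; rw [h0, zero_pow (by omega), mul_zero] at h1; exact zero_ne_one h1
  have hlamN : lam ^ (N * (qq + 2)) = 1 := by
    rw [← orderOf_dvd_iff_pow_eq_one]
    refine (orderOf_dvd_of_pow_eq_one (?_ : lam ^ (qq ^ 2 - 1) = 1)).trans ?_
    · have := FiniteField.pow_card_sub_one_eq_one lam hlam0
      rwa [Module.card_eq_pow_finrank (K := F), hrank] at this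
    · have hd2 : Nat.gcd 3 (qq - 1) ∣ qq ^ 2 - 1 :=
        (Nat.gcd_dvd_right _ _).trans (by simpa using Nat.sub_dvd_pow_sub_pow (x := qq) (y := 1) (n := 2))
      have hd3 : Nat.gcd 3 (qq - 1) ∣ qq + 2 := by
        rw [show qq + 2 = qq - 1 + 3 by omega]
        exact dvd_add (Nat.gcd_dvd_right _ _) (Nat.gcd_dvd_left _ _)
      obtain ⟨c, hc⟩ := hd3
      refine ⟨c, ?_⟩
      rw [hc, hN, ← mul_assoc, Nat.div_mul_cancel hd2]
  rw [← AdjoinRoot.mk_eq_zero, map_sub, map_pow, AdjoinRoot.mk_X, AdjoinRoot.mk_C, ← AdjoinRoot.algebraMap_eq,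
    sub_eq_zero, ← hlam, map_pow]
  calc lam ^ N = lam ^ N * (algebraMap F (AdjoinRoot g) a * lam ^ (1 + qq)) ^ N := by rw [h1, one_pow, mul_one]
    _ = algebraMap F (AdjoinRoot g) a ^ N * lam ^ (N * (qq + 2)) := by ring
    _ = _ := by rw [hlamN, mul_one]

/-- Every element order divides one of the extremal orders. -/
theorem orderOf_cases (x : Matrix.ProjectiveSpecialLinearGroup (Fin 3) F) :
    orderOf x ∣ (qq ^ 2 + qq + 1) / Nat.gcd 3 (qq - 1) ∨ orderOf x ∣ (qq ^ 2 - 1) / Nat.gcd 3 (qq - 1) ∨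
      orderOf x ∣ qq - 1 ∨ orderOf x ∣ p * (qq - 1) / Nat.gcd 3 (qq - 1) ∨ (p = 2 ∧ orderOf x ∣ 4) := by
  classical
  obtain ⟨A, rfl⟩ := QuotientGroup.mk_surjective x
  have hq : 2 ≤ qq := Fintype.one_lt_card
  have hp : p.Prime := Fact.out
  set P := (A : Matrix (Fin 3) (Fin 3) F).charpoly with hP
  have hPm : P.Monic := charpoly_monic _
  have hPd : P.natDegree = 3 := by rw [hP, charpoly_natDegree_eq_dim, Fintype.card_fin]
  have hdet : ∀ a b c : F, P = (X - C a) * ((X - C b) * (X - C c)) → a * b * c = 1 := by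
    intro a b c h
    have h2 := det_eq_sign_charpoly_coeff (A : Matrix (Fin 3) (Fin 3) F)
    rw [A.2, ← hP, h, mul_coeff_zero, mul_coeff_zero, coeff_sub, coeff_sub, coeff_sub, coeff_X_zero,
      coeff_C_zero, coeff_C_zero, coeff_C_zero, Fintype.card_fin] at h2
    linear_combination -h2
  have hne : ∀ a : F, P.IsRoot a → a ≠ 0 := by
    rintro a h rfl
    have h2 := det_eq_sign_charpoly_coeff (A : Matrix (Fin 3) (Fin 3) F)
    rw [A.2, ← hP, coeff_zero_eq_eval_zero, h.eq_zero, mul_zero] at h2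
    exact one_ne_zero h2
  by_cases hroot : P.roots = 0
  · left
    have hirr : Irreducible P := (hPm.irreducible_iff_roots_eq_zero_of_degree_le_three
      (by omega) (by omega)).2 hroot
    have h1 := SpectrumPSL.primary_pow_mk_eq_one (F := F) (p := p) (K := 3)
      (le_of_lt (Nat.lt_pow_self hp.one_lt)) A hPm hirr (e := 1) (by rw [pow_one, hP])
    have h2 : (QuotientGroup.mk A : Matrix.ProjectiveSpecialLinearGroup (Fin 3) F) ^ (qq ^ 3 - 1) = 1 := by
      refine pow_eq_scalar_of_dvd (c := 1) ?_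
      rw [← hP]
      haveI := Fact.mk hirr
      haveI : Module.Finite F (AdjoinRoot P) := (AdjoinRoot.powerBasis hirr.ne_zero).finite
      haveI : Finite (AdjoinRoot P) := Module.finite_of_finite F
      letI := Fintype.ofFinite (AdjoinRoot P)
      rw [← AdjoinRoot.mk_eq_zero, map_sub, map_pow, AdjoinRoot.mk_X, map_one, map_one, sub_eq_zero]
      have h0 : AdjoinRoot.root P ≠ 0 := fun h0 => hne 0 (by
        have h := AdjoinRoot.isRoot_root P
        rw [h0, IsRoot, eval_map, eval₂_at_zero, ← map_zero (AdjoinRoot.of P)] at h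
        rw [IsRoot, ← coeff_zero_eq_eval_zero]
        exact (AdjoinRoot.of P).injective h) rfl
      have := FiniteField.pow_card_sub_one_eq_one _ h0
      rwa [Module.card_eq_pow_finrank (K := F), (AdjoinRoot.powerBasis hirr.ne_zero).finrank,
        AdjoinRoot.powerBasis_dim, hPd] at this
    have hgeo : SpectrumPSL.singerExp qq 3 = (qq ^ 2 + qq + 1) / Nat.gcd 3 (qq - 1) := by
      simp [SpectrumPSL.singerExp, SpectrumPSL.geo, Finset.sum_range_succ]
      congr 1; ring
    rw [← hgeo]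
    obtain ⟨f, -, hqf⟩ := FiniteField.card F p
    have hcop : (orderOf (QuotientGroup.mk A : Matrix.ProjectiveSpecialLinearGroup (Fin 3) F)).Coprime (p ^ 3) := by
      refine Nat.Coprime.pow_right 3 (Nat.Coprime.coprime_dvd_left (orderOf_dvd_of_pow_eq_one h2) ?_)
      refine (hp.coprime_iff_not_dvd.2 fun h => ?_).symm
      have h' := Nat.dvd_sub (show p ∣ qq ^ 3 from (hqf ▸ dvd_pow_self p f.ne_zero : p ∣ qq).trans
        (dvd_pow_self qq (by omega))) h
      have h1' : 1 ≤ qq ^ 3 := Nat.one_le_pow 3 qq (by omega)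
      rw [show qq ^ 3 - (qq ^ 3 - 1) = 1 by omega] at h'
      exact hp.one_lt.ne' (Nat.dvd_one.1 h')
    exact hcop.dvd_of_dvd_mul_right (orderOf_dvd_of_pow_eq_one h1)
  right
  obtain ⟨a, ha⟩ := Multiset.exists_mem_of_ne_zero hroot
  rw [mem_roots hPm.ne_zero] at ha
  obtain ⟨g, hg⟩ := dvd_iff_isRoot.2 ha
  have hgm : g.Monic := (monic_X_sub_C a).of_mul_monic_left (hg ▸ hPm)
  have hgd : g.natDegree = 2 := by
    have := congrArg natDegree hg
    rw [hPd, (monic_X_sub_C a).natDegree_mul hgm, natDegree_X_sub_C] at this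
    omega
  by_cases hgr : g.roots = 0
  · left
    exact quadratic_case hgm ((hgm.irreducible_iff_roots_eq_zero_of_degree_le_three (by omega) (by omega)).2 hgr)
      hgd hg
  right
  obtain ⟨b, hb⟩ := Multiset.exists_mem_of_ne_zero hgr
  rw [mem_roots hgm.ne_zero] at hb
  obtain ⟨k, hk⟩ := dvd_iff_isRoot.2 hb
  have hkm : k.Monic := (monic_X_sub_C b).of_mul_monic_left (hk ▸ hgm)
  have hkd : k.natDegree = 1 := by
    have := congrArg natDegree hk
    rw [hgd, (monic_X_sub_C b).natDegree_mul hkm, natDegree_X_sub_C] at this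
    omega
  obtain ⟨c, rfl⟩ : ∃ c, k = X - C c := ⟨-(k.coeff 0), by
    conv_lhs => rw [hkm.eq_X_add_C hkd]
    rw [map_neg, sub_neg_eq_add]⟩
  rw [hk] at hg
  have habc := hdet a b c hg
  have hpw : ∀ a : F, a ≠ 0 → a ^ (qq - 1) = 1 := fun a h => FiniteField.pow_card_sub_one_eq_one a h
  have ha0 : a ≠ 0 := fun h => by rw [h, zero_mul, zero_mul] at habc; exact zero_ne_one habc
  have hb0 : b ≠ 0 := fun h => by rw [h, mul_zero, zero_mul] at habc; exact zero_ne_one habc
  have hc0 : c ≠ 0 := fun h => by rw [h, mul_zero] at habc; exact zero_ne_one habc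
  -- two equal roots
  have pair : ∀ u v : F, P = (X - C u) ^ 2 * (X - C v) → u * u * v = 1 → u ≠ 0 → v ≠ 0 →
      orderOf (QuotientGroup.mk A : Matrix.ProjectiveSpecialLinearGroup (Fin 3) F) ∣
        p * (qq - 1) / Nat.gcd 3 (qq - 1) ∨
      (p = 2 ∧ orderOf (QuotientGroup.mk A : Matrix.ProjectiveSpecialLinearGroup (Fin 3) F) ∣ 4) := by
    intro u v huv hdet' hu hv
    by_cases heq : u = v
    · subst heq
      have h3 : P ∣ (X - C u) ^ 3 := by rw [huv, ← pow_succ]
      rcases Nat.lt_or_ge p 3 with h | h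
      · right
        have hp2 : p = 2 := by have := hp.two_le; omega
        refine ⟨hp2, orderOf_dvd_of_pow_eq_one (pow_eq_scalar_of_dvd (c := u ^ 4) ?_)⟩
        rw [← hP, C_pow, show (4 : ℕ) = p ^ 2 by rw [hp2]; rfl, ← sub_pow_char_pow]
        exact h3.trans (pow_dvd_pow _ (by rw [hp2]; norm_num))
      · left
        refine (orderOf_dvd_of_pow_eq_one (pow_eq_scalar_of_dvd (N := p) (c := u ^ p) ?_)).trans ?_
        · rw [← hP, C_pow, ← sub_pow_char]
          exact h3.trans (pow_dvd_pow _ h)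
        · rw [Nat.mul_div_assoc _ (Nat.gcd_dvd_right _ _)]
          exact dvd_mul_right _ _
    · left
      set M := (qq - 1) / Nat.gcd 3 (qq - 1) with hM
      rw [Nat.mul_div_assoc _ (Nat.gcd_dvd_right _ _), ← hM]
      refine orderOf_dvd_of_pow_eq_one ?_
      rw [mul_comm p M]
      refine pow_eq_scalar_of_dvd (c := (u ^ M) ^ p) ?_
      rw [← hP, huv, pow_mul, C_pow, ← sub_pow_char]
      have huM : v ^ M = u ^ M := by
        have h3 : u ^ (M * 3) = 1 := by
          obtain ⟨t, ht⟩ := mul_three (F := F) (M := qq - 1) dvd_rfl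
          rw [← hM] at ht
          rw [ht, pow_mul, hpw u hu, one_pow]
        calc v ^ M = v ^ M * u ^ (M * 3) := by rw [h3, mul_one]
          _ = (u * u * v) ^ M * u ^ M := by ring
          _ = u ^ M := by rw [hdet', one_pow, one_mul]
      have h1 : (X - C u) * (X - C v) ∣ (X : F[X]) ^ M - C (u ^ M) := by
        refine (isCoprime_X_sub_C_of_isUnit_sub (sub_ne_zero.2 heq).isUnit).mul_dvd ?_ ?_
        · rw [dvd_iff_isRoot]; simp
        · rw [dvd_iff_isRoot]; simp [huM]
      refine dvd_trans ?_ (pow_dvd_pow_of_dvd h1 p)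
      rw [mul_pow]
      exact mul_dvd_mul (pow_dvd_pow _ hp.two_le) (dvd_pow_self _ hp.ne_zero)
  by_cases h12 : a = b
  · right; subst h12
    exact pair a c (by rw [hg]; ring) habc ha0 hc0
  by_cases h13 : a = c
  · right; subst h13
    exact pair a b (by rw [hg]; ring) (by linear_combination habc) ha0 hb0
  by_cases h23 : b = c
  · right; subst h23
    exact pair b a (by rw [hg]; ring) (by linear_combination habc) hb0 ha0
  left
  refine orderOf_dvd_of_pow_eq_one (pow_eq_scalar_of_dvd (c := 1) ?_)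
  rw [← hP, hg]
  have hr : ∀ u : F, u ≠ 0 → X - C u ∣ (X : F[X]) ^ (qq - 1) - C 1 := fun u hu => by
    rw [dvd_iff_isRoot]; simp [hpw u hu]
  exact ((isCoprime_X_sub_C_of_isUnit_sub (sub_ne_zero.2 h12).isUnit).mul_right
    (isCoprime_X_sub_C_of_isUnit_sub (sub_ne_zero.2 h13).isUnit)).mul_dvd (hr a ha0)
    ((isCoprime_X_sub_C_of_isUnit_sub (sub_ne_zero.2 h23).isUnit).mul_dvd (hr b hb0) (hr c hc0))

omit [Fact p.Prime] [CharP F p] p in
/-- `g ↦ diag(g, det g⁻¹)`. -/
theorem exists_minus : ∃ x : Matrix.ProjectiveSpecialLinearGroup (Fin 3) F,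
    (qq ^ 2 - 1) / Nat.gcd 3 (qq - 1) ∣ orderOf x := by
  classical
  obtain ⟨g, hg⟩ := CfsgLib.MatOrder.exists_gl_orderOf_singer F (i := 2) (by omega)
  let e : Fin 2 ⊕ Fin 1 ≃ Fin 3 := finSumFinEquiv
  let D : Matrix (Fin 1) (Fin 1) F := scalar (Fin 1) ((g : Matrix (Fin 2) (Fin 2) F).det)⁻¹
  have hd : (g : Matrix (Fin 2) (Fin 2) F).det ≠ 0 :=
    ((Matrix.isUnit_iff_isUnit_det _).1 g.isUnit).ne_zero
  let A : Matrix.SpecialLinearGroup (Fin 3) F := ⟨Matrix.reindexAlgEquiv F F e (fromBlocks (g : Matrix (Fin 2) (Fin 2) F) 0 0 D), by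
    rw [det_reindexAlgEquiv, det_fromBlocks_zero₂₁]; simp [D, hd]⟩
  refine ⟨QuotientGroup.mk A, ?_⟩
  set j := orderOf (QuotientGroup.mk A : Matrix.ProjectiveSpecialLinearGroup (Fin 3) F)
  obtain ⟨c, hc3, hc⟩ := SpectrumPSL.center_scalar ((QuotientGroup.eq_one_iff (A ^ j)).mp
    (by rw [QuotientGroup.mk_pow]; exact pow_orderOf_eq_one _))
  rw [Matrix.SpecialLinearGroup.coe_pow, show (A : Matrix (Fin 3) (Fin 3) F) =
    Matrix.reindexAlgEquiv F F e (fromBlocks (g : Matrix (Fin 2) (Fin 2) F) 0 0 D) from rfl, ← map_pow,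
    fromBlocks_diagonal_pow] at hc
  have hg' : (g : Matrix (Fin 2) (Fin 2) F) ^ j = scalar (Fin 2) c := by
    ext s t
    have := congrFun (congrFun hc (e (Sum.inl s))) (e (Sum.inl t))
    rw [Matrix.scalar_apply, Matrix.diagonal_apply] at this
    simpa [Matrix.scalar_apply, Matrix.diagonal_apply] using this
  rcases gcd_cases (F := F) with h | h
  · rw [h, Nat.div_one, ← Fintype.card_fin 2]
    simp only [Fintype.card_fin]
    rw [← hg]
    refine orderOf_dvd_of_pow_eq_one (Units.ext ?_)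
    rw [Units.val_pow_eq_pow_val, hg', Units.val_one]
    have hc1 : c = 1 := by
      have hc0 : c ≠ 0 := by rintro rfl; simp at hc3
      rw [← orderOf_eq_one_iff]
      exact Nat.eq_one_of_dvd_coprimes h (orderOf_dvd_of_pow_eq_one hc3)
        (orderOf_dvd_of_pow_eq_one (FiniteField.pow_card_sub_one_eq_one c hc0))
    rw [hc1, map_one]
  · rw [h]
    have h3 : 3 ∣ qq ^ 2 - 1 := (h ▸ Nat.gcd_dvd_right _ _ : 3 ∣ qq - 1).trans
      (by simpa using Nat.sub_dvd_pow_sub_pow (x := qq) (y := 1) (n := 2))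
    obtain ⟨t, ht⟩ := h3
    rw [ht, Nat.mul_div_cancel_left _ (by omega)]
    refine (Nat.mul_dvd_mul_iff_left (show 0 < 3 by omega)).1 (ht ▸ ?_)
    rw [← hg, mul_comm]
    refine orderOf_dvd_of_pow_eq_one (Units.ext ?_)
    rw [pow_mul, Units.val_pow_eq_pow_val, Units.val_pow_eq_pow_val, hg', Units.val_one, ← map_pow, hc3, map_one]

omit [Fact p.Prime] [CharP F p] p in
theorem exists_split : ∃ x : Matrix.ProjectiveSpecialLinearGroup (Fin 3) F, qq - 1 ∣ orderOf x := by
  classical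
  obtain ⟨u, hu⟩ := IsCyclic.exists_ofOrder_eq_natCard (α := Fˣ)
  rw [Nat.card_units, Nat.card_eq_fintype_card] at hu
  let A : Matrix.SpecialLinearGroup (Fin 3) F := ⟨diagonal ![(u : F), 1, (u : F)⁻¹], by
    simp [det_diagonal, Fin.prod_univ_three]⟩
  refine ⟨QuotientGroup.mk A, ?_⟩
  set j := orderOf (QuotientGroup.mk A : Matrix.ProjectiveSpecialLinearGroup (Fin 3) F)
  obtain ⟨c, hc⟩ := SpectrumPSL.mk_eq_one_iff.1
    (show (QuotientGroup.mk (A ^ j) : Matrix.ProjectiveSpecialLinearGroup (Fin 3) F) = 1 by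
      rw [QuotientGroup.mk_pow]; exact pow_orderOf_eq_one _)
  rw [Matrix.SpecialLinearGroup.coe_pow, show (A : Matrix (Fin 3) (Fin 3) F) = diagonal _ from rfl, diagonal_pow,
    Matrix.scalar_apply] at hc
  have h0 := congrFun (diagonal_injective hc) 0
  have h1 := congrFun (diagonal_injective hc) 1
  simp at h0 h1
  rw [← hu]
  exact orderOf_dvd_of_pow_eq_one (Units.ext (by rw [Units.val_pow_eq_pow_val, h0, ← h1, Units.val_one]))

theorem exists_mixed : ∃ x : Matrix.ProjectiveSpecialLinearGroup (Fin 3) F,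
    p * (qq - 1) / Nat.gcd 3 (qq - 1) ∣ orderOf x := by
  classical
  have hp : p.Prime := Fact.out
  obtain ⟨u, hu⟩ := IsCyclic.exists_ofOrder_eq_natCard (α := Fˣ)
  rw [Nat.card_units, Nat.card_eq_fintype_card] at hu
  let d : Fin 3 → F := ![(u : F), (u : F), ((u : F) ^ 2)⁻¹]
  let D : Matrix.SpecialLinearGroup (Fin 3) F := ⟨diagonal d, by
    simp [d, det_diagonal, Fin.prod_univ_three]; field_simp⟩
  let T : Matrix.SpecialLinearGroup (Fin 3) F := ⟨transvection 0 1 1, det_transvection_of_ne 0 1 (by decide) 1⟩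
  have hT : ∀ k : ℕ, ((T ^ k : Matrix.SpecialLinearGroup (Fin 3) F) : Matrix (Fin 3) (Fin 3) F) =
      transvection 0 1 (k : F) := by
    intro k
    induction k with
    | zero => simp
    | succ k ih =>
      rw [pow_succ, Matrix.SpecialLinearGroup.coe_mul, ih, Nat.cast_succ]
      exact transvection_mul_transvection_same 0 1 (by decide) _ _
  have hcomm : Commute D T := Subtype.ext (by
    show diagonal d * transvection 0 1 1 = transvection 0 1 1 * diagonal d
    ext s t
    rw [diagonal_mul, mul_diagonal]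
    fin_cases s <;> fin_cases t <;> simp [d, transvection])
  refine ⟨QuotientGroup.mk (D * T), ?_⟩
  set j := orderOf (QuotientGroup.mk (D * T) : Matrix.ProjectiveSpecialLinearGroup (Fin 3) F)
  obtain ⟨c, hc3, hc⟩ := SpectrumPSL.center_scalar ((QuotientGroup.eq_one_iff ((D * T) ^ j)).mp
    (by rw [QuotientGroup.mk_pow]; exact pow_orderOf_eq_one _))
  rw [hcomm.mul_pow, Matrix.SpecialLinearGroup.coe_mul, hT, Matrix.SpecialLinearGroup.coe_pow,
    show (D : Matrix (Fin 3) (Fin 3) F) = diagonal d from rfl, diagonal_pow, Matrix.scalar_apply] at hc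
  have h01 := congrFun (congrFun hc 0) 1
  have h00 := congrFun (congrFun hc 0) 0
  simp [diagonal_mul, d, transvection] at h01 h00
  have hpj : p ∣ j := (CharP.cast_eq_zero_iff F p j).1 h01
  set M := (qq - 1) / Nat.gcd 3 (qq - 1) with hM
  rw [Nat.mul_div_assoc _ (Nat.gcd_dvd_right _ _), ← hM]
  have hMj : M ∣ j := by
    rcases gcd_cases (F := F) with h | h
    · rw [hM, h, Nat.div_one, ← hu]
      refine orderOf_dvd_of_pow_eq_one (Units.ext ?_)
      have hc0 : c ≠ 0 := by rintro rfl; simp at hc3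
      have hc1 : c = 1 := by
        rw [← orderOf_eq_one_iff]
        exact Nat.eq_one_of_dvd_coprimes h (orderOf_dvd_of_pow_eq_one hc3)
          (orderOf_dvd_of_pow_eq_one (FiniteField.pow_card_sub_one_eq_one c hc0))
      rw [Units.val_pow_eq_pow_val, h00, hc1, Units.val_one]
    · have h3 : 3 ∣ qq - 1 := h ▸ Nat.gcd_dvd_right _ _
      obtain ⟨t, ht⟩ := h3
      rw [hM, h, ht, Nat.mul_div_cancel_left _ (by omega)]
      refine (Nat.mul_dvd_mul_iff_left (show 0 < 3 by omega)).1 (ht ▸ ?_)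
      rw [← hu, mul_comm]
      refine orderOf_dvd_of_pow_eq_one (Units.ext ?_)
      rw [pow_mul, Units.val_pow_eq_pow_val, Units.val_pow_eq_pow_val, h00, hc3, Units.val_one]
  refine Nat.Coprime.mul_dvd_of_dvd_of_dvd (hp.coprime_iff_not_dvd.2 fun hd => ?_) hpj hMj
  obtain ⟨f, -, hqf⟩ := FiniteField.card F p
  have h' := Nat.dvd_sub (show p ∣ qq from hqf ▸ dvd_pow_self p f.ne_zero)
    (hd.trans (Nat.div_dvd_of_dvd (Nat.gcd_dvd_right _ _)))
  have hq1 : 1 ≤ qq := Fintype.card_pos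
  rw [show qq - (qq - 1) = 1 by omega] at h'
  exact hp.one_lt.ne' (Nat.dvd_one.1 h')

theorem spectrum_three :
    Set.range (orderOf : Matrix.ProjectiveSpecialLinearGroup (Fin 3) F → ℕ) =
      {m : ℕ | m ∣ (qq ^ 2 + qq + 1) / Nat.gcd 3 (qq - 1) ∨
        m ∣ (qq ^ 2 - 1) / Nat.gcd 3 (qq - 1) ∨ m ∣ qq - 1 ∨
        m ∣ p * (qq - 1) / Nat.gcd 3 (qq - 1) ∨ (p = 2 ∧ m ∣ 4)} := by
  ext m
  constructor
  · rintro ⟨x, rfl⟩
    exact orderOf_cases p x
  · have get : ∀ {N : ℕ} (x : Matrix.ProjectiveSpecialLinearGroup (Fin 3) F), N ∣ orderOf x → m ∣ N →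
        m ∈ Set.range (orderOf : Matrix.ProjectiveSpecialLinearGroup (Fin 3) F → ℕ) :=
      fun x h1 h2 => CfsgLib.Spectrum.exists_orderOf_eq_of_dvd (orderOf_pos x) (h2.trans h1)
    rintro (h | h | h | h | ⟨rfl, h⟩)
    · obtain ⟨x, hx⟩ := SpectrumPSL.exists_orderOf_singerExp (F := F) (n := 3) (by omega)
      refine get x ?_ h
      rw [hx]
      simp [SpectrumPSL.singerExp, SpectrumPSL.geo, Finset.sum_range_succ]
      exact (congrArg (· / Nat.gcd 3 (qq - 1)) (by ring : qq ^ 2 + qq + 1 = 1 + qq + qq ^ 2)).dvd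
    · obtain ⟨x, hx⟩ := exists_minus (F := F); exact get x hx h
    · obtain ⟨x, hx⟩ := exists_split (F := F); exact get x hx h
    · obtain ⟨x, hx⟩ := exists_mixed (F := F) p; exact get x hx h
    · have h4 := SpectrumPSL.orderOf_mk_of_ppow (p := 2) (K := 2)
        (CfsgLib.MatOrder.orderOf_regUnipotent (R := F) (p := 2) (n := 3) (K := 2) (by omega) (by norm_num) (by norm_num))
      exact get _ (by rw [h4]; norm_num) h

end CfsgLib.SpectrumThree
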